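import Cfsg.Agent.Lib.Classical.CharTwoInvol.Frames

/-!
Involution classes of groups of isometries, by the type of `t - 1`.
-/

set_option autoImplicit false

namespace Cfsg.Agent.Lib.Classical.CharTwoInvol

open Module (finrank)

variable {F : Type*} [Field F] {V : Type*} [AddCommGroup V] [Module F V] {B : LinearMap.BilinForm F V}
variable {G : Type*} [Group G]

/-- `ρ g - 1`. -/
def diffMap (ρ : G →* (V ≃ₗ[F] V)) (g : G) : V →ₗ[F] V := (ρ g).toLinearMap - LinearMap.id

theorem diffMap_apply (ρ : G →* (V ≃ₗ[F] V)) (g : G) (v : V) : diffMap ρ g v = ρ g v - v := rfl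

theorem hom_mul_apply (ρ : G →* (V ≃ₗ[F] V)) (g h : G) (v : V) : ρ (g * h) v = ρ g (ρ h v) := by
  rw [map_mul]; rfl

theorem hom_inv_apply (ρ : G →* (V ≃ₗ[F] V)) (g : G) (v : V) : ρ g (ρ g⁻¹ v) = v := by
  rw [← hom_mul_apply, mul_inv_cancel, map_one]; rfl

theorem two_smul_zero (K : Type*) [Field K] [CharP K 2] {W : Type*} [AddCommGroup W] [Module K W] (v : W) :
    v + v = 0 := by
  rw [← two_smul K, CharTwo.two_eq_zero, zero_smul]

variable [CharP F 2]

theorem diffMap_isInvolDiff {ρ : G →* (V ≃ₗ[F] V)} (hρ : ∀ g u v, B (ρ g u) (ρ g v) = B u v) {g : G}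
    (hg : g * g = 1) : IsInvolDiff B (diffMap ρ g) := by
  have ht : ∀ v, ρ g (ρ g v) = v := fun v => by rw [← hom_mul_apply, hg, map_one]; rfl
  refine ⟨fun u v => ?_, fun v => ?_⟩
  · rw [diffMap_apply, diffMap_apply, map_sub, LinearMap.sub_apply, map_sub]
    congr 1
    conv_lhs => rw [← ht v]
    rw [hρ]
  · rw [diffMap_apply, diffMap_apply, map_sub, ht]
    rw [show v - ρ g v - (ρ g v - v) = (v + v) - (ρ g v + ρ g v) by abel, two_smul_zero F, two_smul_zero F,
      sub_zero]

omit [CharP F 2] in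
theorem diffMap_eq_zero {ρ : G →* (V ≃ₗ[F] V)} (hinj : Function.Injective ρ) {g : G}
    (h : diffMap ρ g = 0) : g = 1 :=
  hinj (by
    rw [map_one]
    exact LinearEquiv.ext fun v => sub_eq_zero.mp (LinearMap.congr_fun h v))

omit [CharP F 2] in
theorem isConj_of_intertwine {ρ : G →* (V ≃ₗ[F] V)} (hinj : Function.Injective ρ) {g h c : G}
    (hc : ∀ v, ρ c (diffMap ρ g v) = diffMap ρ h (ρ c v)) : IsConj g h := by
  rw [isConj_iff]
  refine ⟨c, hinj (LinearEquiv.ext fun v => ?_)⟩
  have h1 := hc (ρ c⁻¹ v)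
  rw [diffMap_apply, diffMap_apply, map_sub, hom_inv_apply, sub_left_inj] at h1
  rw [hom_mul_apply, hom_mul_apply]
  exact h1

omit [CharP F 2] in
theorem conj_invariants {ρ : G →* (V ≃ₗ[F] V)} (hρ : ∀ g u v, B (ρ g u) (ρ g v) = B u v) {g h : G}
    (hc : IsConj g h) :
    finrank F (LinearMap.range (diffMap ρ g)) = finrank F (LinearMap.range (diffMap ρ h)) ∧
      (IsAltType B (diffMap ρ g) ↔ IsAltType B (diffMap ρ h)) := by
  obtain ⟨c, rfl⟩ := isConj_iff.mp hc
  have hN : ∀ v, diffMap ρ (c * g * c⁻¹) (ρ c v) = ρ c (diffMap ρ g v) := fun v => by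
    rw [diffMap_apply, diffMap_apply, map_sub, hom_mul_apply, hom_mul_apply, ← hom_mul_apply ρ c⁻¹ c,
      inv_mul_cancel, map_one]
    rfl
  have hr : LinearMap.range (diffMap ρ (c * g * c⁻¹)) =
      (LinearMap.range (diffMap ρ g)).map (ρ c).toLinearMap := by
    ext x
    constructor
    · rintro ⟨v, rfl⟩
      obtain ⟨u, rfl⟩ := (ρ c).surjective v
      exact ⟨diffMap ρ g u, ⟨u, rfl⟩, (hN u).symm⟩
    · rintro ⟨_, ⟨v, rfl⟩, rfl⟩
      exact ⟨ρ c v, hN v⟩
  refine ⟨by rw [hr, LinearEquiv.finrank_map_eq], fun h v => ?_, fun h v => ?_⟩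
  · obtain ⟨u, rfl⟩ := (ρ c).surjective v
    rw [hN, hρ]
    exact h u
  · have := h (ρ c v)
    rwa [hN, hρ] at this

variable [FiniteDimensional F V] [Fintype F]

/-- Counting involution classes by rank and type. -/
theorem card_involClasses (hA : B.IsAlt) (hB : B.Nondegenerate) {m : ℕ} (hdim : finrank F V = 2 * m)
    (ρ : G →* (V ≃ₗ[F] V)) (hinj : Function.Injective ρ) (hρ : ∀ g u v, B (ρ g u) (ρ g v) = B u v)
    (hconj : ∀ g h : G, g * g = 1 → h * h = 1 →
      finrank F (LinearMap.range (diffMap ρ g)) = finrank F (LinearMap.range (diffMap ρ h)) →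
      (IsAltType B (diffMap ρ g) ↔ IsAltType B (diffMap ρ h)) → IsConj g h)
    (c : ℕ)
    (hna : ∀ s, 1 ≤ s → s ≤ m → ∃ g : G, g * g = 1 ∧
      finrank F (LinearMap.range (diffMap ρ g)) = s ∧ ¬ IsAltType B (diffMap ρ g))
    (halt : ∀ k, 1 ≤ k → k ≤ c → ∃ g : G, g * g = 1 ∧
      finrank F (LinearMap.range (diffMap ρ g)) = k + k ∧ IsAltType B (diffMap ρ g))
    (hbound : ∀ g : G, g * g = 1 → ∀ k, finrank F (LinearMap.range (diffMap ρ g)) = k + k →
      IsAltType B (diffMap ρ g) → k ≤ c) :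
    Nat.card {C : ConjClasses G // ∃ g : G, ConjClasses.mk g = C ∧ orderOf g = 2} = m + c := by
  choose g₁ h₁ using fun i : Fin m => hna ((i : ℕ) + 1) (Nat.le_add_left 1 _) i.2
  choose g₂ h₂ using fun i : Fin c => halt ((i : ℕ) + 1) (Nat.le_add_left 1 _) i.2
  let rep : Fin m ⊕ Fin c → G := Sum.elim g₁ g₂
  have hne : ∀ k, orderOf (rep k) = 2 := fun k => by
    refine orderOf_eq_prime (by rcases k with i | i; exacts [by rw [sq]; exact (h₁ i).1, by rw [sq]; exact (h₂ i).1])
      fun h => ?_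
    have hz : diffMap ρ (rep k) = 0 := by
      rw [h]
      exact LinearMap.ext fun v => by rw [diffMap_apply, map_one]; exact sub_self v
    rcases k with i | i
    · have := (h₁ i).2.1
      rw [show diffMap ρ (g₁ i) = 0 from hz, LinearMap.range_zero, finrank_bot] at this
      omega
    · have := (h₂ i).2.1
      rw [show diffMap ρ (g₂ i) = 0 from hz, LinearMap.range_zero, finrank_bot] at this
      omega
  let Φ : Fin m ⊕ Fin c → {C : ConjClasses G // ∃ g : G, ConjClasses.mk g = C ∧ orderOf g = 2} :=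
    fun k => ⟨ConjClasses.mk (rep k), rep k, rfl, hne k⟩
  have hΦ : Function.Bijective Φ := by
    refine ⟨fun a b hab => ?_, ?_⟩
    · have hc := conj_invariants hρ (ConjClasses.mk_eq_mk_iff_isConj.mp (congrArg Subtype.val hab))
      rcases a with i | i <;> rcases b with j | j
      · have h := (h₁ i).2.1.symm.trans (hc.1.trans (h₁ j).2.1)
        exact congrArg Sum.inl (Fin.ext (by omega))
      · exact absurd (hc.2.mpr (h₂ j).2.2) (h₁ i).2.2
      · exact absurd (hc.2.mp (h₂ i).2.2) (h₁ j).2.2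
      · have h := (h₂ i).2.1.symm.trans (hc.1.trans (h₂ j).2.1)
        exact congrArg Sum.inr (Fin.ext (by omega))
    · rintro ⟨C, g, rfl, hg⟩
      have hg2 : g * g = 1 := by rw [← sq, ← hg, pow_orderOf_eq_one]
      have hN := diffMap_isInvolDiff hρ hg2
      set s := finrank F (LinearMap.range (diffMap ρ g)) with hs
      have hs1 : 1 ≤ s := by
        by_contra h0
        have h0' : s = 0 := by omega
        rw [hs, Submodule.finrank_eq_zero, LinearMap.range_eq_bot] at h0'
        rw [diffMap_eq_zero hinj h0', orderOf_one] at hg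
        omega
      have hsm : s ≤ m := by
        have := rank_le hB hN
        omega
      by_cases hal : IsAltType B (diffMap ρ g)
      · obtain ⟨k, hk⟩ := even_of_alt hA hB hN hal hs.symm
        have hkc := hbound g hg2 k (hs.symm.trans hk) hal
        refine ⟨Sum.inr ⟨k - 1, by omega⟩, Subtype.ext (ConjClasses.mk_eq_mk_iff_isConj.mpr ?_)⟩
        refine hconj _ _ (h₂ _).1 hg2 ((h₂ _).2.1.trans ?_) (iff_of_true (h₂ _).2.2 hal)
        rw [← hs, hk]
        simp only []
        omega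
      · refine ⟨Sum.inl ⟨s - 1, by omega⟩, Subtype.ext (ConjClasses.mk_eq_mk_iff_isConj.mpr ?_)⟩
        refine hconj _ _ (h₁ _).1 hg2 ((h₁ _).2.1.trans ?_) (iff_of_false (h₁ _).2.2 hal)
        rw [← hs]
        simp only []
        omega
  rw [← Nat.card_eq_of_bijective Φ hΦ, Nat.card_sum, Nat.card_fin, Nat.card_fin]

end Cfsg.Agent.Lib.Classical.CharTwoInvol
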