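import Cfsg.Agent.Lib.Classical.CharTwoInvol.OmegaClasses

/-!
Criteria for conjugacy of involutions of orthogonal groups in characteristic two, in the full group and in `Ω`.
-/

set_option autoImplicit false
set_option linter.unusedSectionVars false

namespace Cfsg.Agent.Lib.Classical.CharTwoInvol

open QuadraticMap (polarBilin)
open Module (finrank)
open scoped Matrix
open Cfsg.Agent.Lib.Geometry (quadIsometries isometryEquiv dickson dicksonHom closure_refl_eq_top refl refl_apply
  dicksonHom_refl exists_ne_zero_ne_one_or_of_card)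
open Cfsg.Agent.Lib.QuadFin (mem_Omega_criterion dickson_eq_codim map_eq_of_stab)

attribute [-simp] QuadraticMap.polarBilin_apply_apply

/-- An isometry carrying one difference to another preserves rank and type. -/
theorem intertwine_invariants {F : Type*} [Field F] {V : Type*} [AddCommGroup V] [Module F V]
    {B : LinearMap.BilinForm F V} (e : V ≃ₗ[F] V) (he : ∀ u v, B (e u) (e v) = B u v) {N N' : V →ₗ[F] V}
    (hN : ∀ v, e (N v) = N' (e v)) :
    finrank F (LinearMap.range N) = finrank F (LinearMap.range N') ∧ (IsAltType B N ↔ IsAltType B N') := by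
  have hr : LinearMap.range N' = (LinearMap.range N).map e.toLinearMap := by
    ext x
    constructor
    · rintro ⟨v, rfl⟩
      obtain ⟨u, rfl⟩ := e.surjective v
      exact ⟨N u, ⟨u, rfl⟩, hN u⟩
    · rintro ⟨_, ⟨v, rfl⟩, rfl⟩
      exact ⟨e v, (hN v).symm⟩
  refine ⟨by rw [hr, LinearEquiv.finrank_map_eq], fun h v => ?_, fun h v => ?_⟩
  · obtain ⟨u, rfl⟩ := e.surjective v
    rw [← hN, he]
    exact h u
  · have := h (e v)
    rwa [← hN, he] at this

variable {F : Type*} [Field F] [CharP F 2] [Fintype F] {ι : Type} [Fintype ι] [DecidableEq ι]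
variable (Q : QuadraticForm F (ι → F))

/-- Conjugacy in the orthogonal group and under the isometries of the polar form agree on involutions. -/
theorem orth_conj_iff_polar (hQ : (polarBilin Q).Nondegenerate) (t s : Cfsg.isometryGroup F (⇑Q))
    (ht : t * t = 1) (hs : s * s = 1) :
    IsConj t s ↔ ∃ g ∈ Cfsg.preserving (Units.coeHom (Matrix ι ι F)) (fun u v => Q (u + v) - Q u - Q v),
      g * (t : GL ι F) * g⁻¹ = (s : GL ι F) := by
  constructor
  · intro h
    obtain ⟨c, hc⟩ := isConj_iff.mp h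
    refine ⟨(c : GL ι F), fun u v => ?_, congrArg Subtype.val hc⟩
    have h1 := orthLin_quad Q c
    simp only [orthLin_apply] at h1
    show Q (_ + _) - _ - _ = _
    rw [Units.coeHom_apply, ← Matrix.mulVec_add, h1, h1, h1]
  · rintro ⟨g, hg, hgc⟩
    let e : (ι → F) ≃ₗ[F] (ι → F) :=
      LinearEquiv.ofLinearMap (g : Matrix ι ι F).mulVecLin ((g⁻¹ : GL ι F) : Matrix ι ι F).mulVecLin
        (LinearMap.ext fun v => by
          show (g : Matrix ι ι F) *ᵥ (((g⁻¹ : GL ι F) : Matrix ι ι F) *ᵥ v) = v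
          rw [Matrix.mulVec_mulVec, ← Units.val_mul, mul_inv_cancel, Units.val_one, Matrix.one_mulVec])
        (LinearMap.ext fun v => by
          show ((g⁻¹ : GL ι F) : Matrix ι ι F) *ᵥ ((g : Matrix ι ι F) *ᵥ v) = v
          rw [Matrix.mulVec_mulVec, ← Units.val_mul, inv_mul_cancel, Units.val_one, Matrix.one_mulVec])
    have he : ∀ u v, polarBilin Q (e u) (e v) = polarBilin Q u v := fun u v => by
      rw [QuadraticMap.polarBilin_apply_apply, QuadraticMap.polarBilin_apply_apply]
      exact hg u v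
    have hcomm : ∀ v, e (diffMap (orthLin Q) t v) = diffMap (orthLin Q) s (e v) := by
      intro v
      rw [diffMap_apply, diffMap_apply, orthLin_apply, orthLin_apply, map_sub]
      show (g : Matrix ι ι F) *ᵥ (((t : GL ι F) : Matrix ι ι F) *ᵥ v) - _ =
        ((s : GL ι F) : Matrix ι ι F) *ᵥ ((g : Matrix ι ι F) *ᵥ v) - _
      rw [Matrix.mulVec_mulVec, Matrix.mulVec_mulVec, ← Units.val_mul, ← Units.val_mul, ← hgc,
        inv_mul_cancel_right]
    obtain ⟨h1, h2⟩ := intertwine_invariants e he hcomm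
    exact orth_isConj Q hQ t s ht hs h1 h2

/-- The Dickson invariant as a homomorphism on the orthogonal group. -/
theorem exists_dickson_hom (hQ : (polarBilin Q).Nondegenerate)
    (hexc : (∃ a : F, a ≠ 0 ∧ a ≠ 1) ∨ Fintype.card ι ≠ 4) :
    ∃ δ : Cfsg.isometryGroup F (⇑Q) →* ℤˣ, (∀ g, δ g = dickson Q (isometryEquiv Q g)) ∧
      (∀ g, g ∈ Cfsg.Omega F (⇑Q) ↔ δ g = 1) ∧
      (∀ g, δ g = (-1) ^ finrank F (LinearMap.range (diffMap (orthLin Q) g))) ∧
      ∀ g v, g * g = 1 → diffMap (orthLin Q) g v = 0 → Q v ≠ 0 → ∃ z, z * g = g * z ∧ δ z = -1 := by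
  have hexc' : (∃ a : F, a ≠ 0 ∧ a ≠ 1) ∨ finrank F (ι → F) ≠ 4 := by
    rwa [Module.finrank_fintype_fun_eq_card]
  let δ : Cfsg.isometryGroup F (⇑Q) →* ℤˣ :=
    (dicksonHom Q hQ (closure_refl_eq_top Q hQ hexc')).comp (isometryEquiv Q).toMonoidHom
  have hδ : ∀ g, δ g = dickson Q (isometryEquiv Q g) := fun g => rfl
  refine ⟨δ, hδ, fun g => (mem_Omega_criterion _ hQ hexc g).trans
    ⟨fun h => h.1, fun h => ⟨h, fun h2 => absurd CharTwo.two_eq_zero h2⟩⟩, fun g => ?_, fun g v hg hv hQv => ?_⟩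
  · rw [hδ, dickson]
    congr 1
    have : LinearMap.range (diffMap (orthLin Q) g) =
        Cfsg.Agent.Lib.Geometry.movedSpace Q (isometryEquiv Q g) := by
      rw [Cfsg.Agent.Lib.Geometry.movedSpace, ← LinearMap.range_neg]
      congr 1
      refine LinearMap.ext fun v => ?_
      rw [LinearMap.neg_apply, diffMap_apply, neg_sub, Cfsg.Agent.Lib.Geometry.oneSub_apply]
      rfl
    rw [this]
  · refine ⟨(isometryEquiv Q).symm (refl Q v), ?_, ?_⟩
    · rw [commute_iff_intertwine (orthLin Q) (orthLin_inj Q)]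
      intro w
      have hN := diffMap_isInvolDiff (orthLin_polar Q) hg
      have he : orthLin Q ((isometryEquiv Q).symm (refl Q v)) = (refl Q v : (ι → F) ≃ₗ[F] (ι → F)) := by
        show ((isometryEquiv Q) ((isometryEquiv Q).symm _)).1 = _
        rw [MulEquiv.apply_symm_apply]
      rw [he, refl_apply, refl_apply, map_sub, map_smul, hv, smul_zero, ← hN.adj, hv, map_zero,
        LinearMap.zero_apply, mul_zero, zero_smul]
    · rw [hδ, MulEquiv.apply_symm_apply]
      exact dicksonHom_refl Q hQ (closure_refl_eq_top Q hQ hexc') hQv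

/-- Conjugate involutions outside the splitting type are conjugate in `Ω`. -/
theorem omega_conj_of_not_split (hQ : (polarBilin Q).Nondegenerate)
    (hexc : (∃ a : F, a ≠ 0 ∧ a ≠ 1) ∨ Fintype.card ι ≠ 4) {m : ℕ} (hdim : finrank F (ι → F) = 2 * m)
    (t s : Cfsg.isometryGroup F (⇑Q)) (ht : t * t = 1) (hconj : IsConj t s)
    (hns : ¬ (finrank F (LinearMap.range (diffMap (orthLin Q) t)) = m ∧
      IsAltType (polarBilin Q) (diffMap (orthLin Q) t))) :
    ∃ g ∈ Cfsg.Omega F (⇑Q), g * t * g⁻¹ = s := by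
  obtain ⟨δ, -, hmem, -, hrefl⟩ := exists_dickson_hom Q hQ hexc
  obtain ⟨c, hc⟩ := isConj_iff.mp hconj
  rcases Int.units_eq_one_or (δ c) with h1 | h1
  · exact ⟨c, (hmem c).mpr h1, hc⟩
  · have hN := diffMap_isInvolDiff (orthLin_polar Q) ht
    obtain ⟨w, hw, hQw⟩ : ∃ w, diffMap (orthLin Q) t w = 0 ∧ Q w ≠ 0 := by
      by_cases hal : IsAltType (polarBilin Q) (diffMap (orthLin Q) t)
      · by_contra hno
        push Not at hno
        have h1 := finrank_singular_le Q hQ (LinearMap.ker (diffMap (orthLin Q) t))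
          fun v hv => hno v (LinearMap.mem_ker.mp hv)
        have h2 := LinearMap.finrank_range_add_finrank_ker (diffMap (orthLin Q) t)
        have h3 := rank_le hQ hN
        exact hns ⟨by omega, hal⟩
      · obtain ⟨w, hw⟩ := exists_quad_diff_eq (orth_diff Q t) hal 1
        exact ⟨_, hN.sq w, by rw [hw]; exact one_ne_zero⟩
    obtain ⟨z, hz, hz1⟩ := hrefl t w ht hw hQw
    refine ⟨c * z, (hmem _).mpr (by rw [map_mul, h1, hz1]; decide), ?_⟩
    calc c * z * t * (c * z)⁻¹ = c * (z * t) * z⁻¹ * c⁻¹ := by group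
      _ = s := by rw [hz, ← hc]; group

/-- In the splitting type, conjugacy in `Ω` is decided by the parity of the intersection. -/
theorem omega_conj_split_iff (hQ : (polarBilin Q).Nondegenerate)
    (hexc : (∃ a : F, a ≠ 0 ∧ a ≠ 1) ∨ Fintype.card ι ≠ 4) {m : ℕ} (hdim : finrank F (ι → F) = 2 * m)
    (t s : Cfsg.isometryGroup F (⇑Q)) (hconj : IsConj t s) (htO : t ∈ Cfsg.Omega F (⇑Q))
    (hr : finrank F (LinearMap.range (diffMap (orthLin Q) t)) = m)
    (hal : IsAltType (polarBilin Q) (diffMap (orthLin Q) t)) :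
    (∃ g ∈ Cfsg.Omega F (⇑Q), g * t * g⁻¹ = s) ↔
      Even (finrank F ↥(LinearMap.range (diffMap (orthLin Q) t) ⊓ LinearMap.range (diffMap (orthLin Q) s))) := by
  obtain ⟨δ, hδ, hmem, hrank, -⟩ := exists_dickson_hom Q hQ hexc
  have hexc' : (∃ a : F, a ≠ 0 ∧ a ≠ 1) ∨ finrank F (ι → F) ≠ 4 := by
    rwa [Module.finrank_fintype_fun_eq_card]
  have hm : Even m := by
    have := (hmem t).mp htO
    rwa [hrank, hr, neg_one_pow_eq_one_iff_even (by decide)] at this
  have key : ∀ c, c * t * c⁻¹ = s → (δ c = 1 ↔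
      Even (finrank F ↥(LinearMap.range (diffMap (orthLin Q) t) ⊓ LinearMap.range (diffMap (orthLin Q) s)))) := by
    intro c hc
    have hN : ∀ v, diffMap (orthLin Q) s (orthLin Q c v) = orthLin Q c (diffMap (orthLin Q) t v) := fun v => by
      rw [← hc, diffMap_apply, diffMap_apply, map_sub, ← hom_mul_apply, ← hom_mul_apply, inv_mul_cancel_right]
    have hrs : LinearMap.range (diffMap (orthLin Q) s) =
        (LinearMap.range (diffMap (orthLin Q) t)).map
          (((isometryEquiv Q c : quadIsometries Q) : (ι → F) ≃ₗ[F] (ι → F)) : (ι → F) →ₗ[F] (ι → F)) := by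
      ext x
      constructor
      · rintro ⟨v, rfl⟩
        obtain ⟨u, rfl⟩ := (orthLin Q c).surjective v
        exact ⟨_, ⟨u, rfl⟩, (hN u).symm⟩
      · rintro ⟨_, ⟨v, rfl⟩, rfl⟩
        exact ⟨_, hN v⟩
    rw [hδ, dickson_eq_codim Q hQ hexc' hdim _ hr (fun u hu => by
      obtain ⟨w, rfl⟩ := hu
      rw [quad_diff (orth_diff Q t)]
      exact hal w) (isometryEquiv Q c), ← hrs, neg_one_pow_eq_one_iff_even (by decide)]
    have hle := Submodule.finrank_mono
      (inf_le_left : LinearMap.range (diffMap (orthLin Q) t) ⊓ LinearMap.range (diffMap (orthLin Q) s) ≤ _)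
    rw [hr] at hle
    rw [Nat.even_sub hle]
    exact ⟨fun h => h.mp hm, fun h => iff_of_true hm h⟩
  constructor
  · rintro ⟨g, hg, hgc⟩
    exact (key g hgc).mp ((hmem g).mp hg)
  · intro he
    obtain ⟨c, hc⟩ := isConj_iff.mp hconj
    exact ⟨c, (hmem c).mpr ((key c hc).mpr he), hc⟩

end Cfsg.Agent.Lib.Classical.CharTwoInvol
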