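import Cfsg.Agent.Lib.Classical.CharTwoInvol.Gram
import Cfsg.Agent.Lib.Geometry.SympBasis
import Cfsg.Agent.Lib.Geometry.WittAlternating

/-!
Normal forms of involutions preserving an alternating form in characteristic two: for `t = 1 + N`
one has `N v = Σ_i B(y_{σ i}, v) y_i` with `σ` the identity or the reversal.
-/

set_option autoImplicit false

namespace Cfsg.Agent.Lib.Classical.CharTwoInvol

open Module (finrank)
open Cfsg.Agent.Lib.Geometry (witt_alternating exists_sympBasis)

variable {F : Type*} [Field F] {V : Type*} [AddCommGroup V] [Module F V]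

/-- The difference `t - 1` of an involution `t` preserving `B`. -/
structure IsInvolDiff (B : LinearMap.BilinForm F V) (N : V →ₗ[F] V) : Prop where
  adj : ∀ u v, B (N u) v = B u (N v)
  sq : ∀ v, N (N v) = 0

/-- The form `v ↦ B(Nv, v)` vanishes identically. -/
def IsAltType (B : LinearMap.BilinForm F V) (N : V →ₗ[F] V) : Prop := ∀ v, B (N v) v = 0

/-- `v ↦ Σ_i B(y_{σ i}, v) y_i`. -/
def tensor (B : LinearMap.BilinForm F V) {s : ℕ} (σ : Fin s → Fin s) (y : Fin s → V) : V →ₗ[F] V :=
  ∑ i, (B (y (σ i))).smulRight (y i)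

theorem tensor_apply (B : LinearMap.BilinForm F V) {s : ℕ} (σ : Fin s → Fin s) (y : Fin s → V) (v : V) :
    tensor B σ y v = ∑ i, B (y (σ i)) v • y i := by
  simp [tensor, LinearMap.sum_apply]

theorem apply_comm [CharP F 2] {B : LinearMap.BilinForm F V} (hA : B.IsAlt) (u v : V) : B u v = B v u := by
  rw [← hA.neg_eq, CharTwo.neg_eq]

variable [FiniteDimensional F V] {B : LinearMap.BilinForm F V} {s : ℕ}

/-- An independent family has arbitrary values under a non-degenerate form. -/
theorem exists_dual (hB : B.Nondegenerate) {y : Fin s → V} (hy : LinearIndependent F y) (c : Fin s → F) :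
    ∃ v, ∀ i, B (y i) v = c i := by
  let f : V →ₗ[F] (Fin s → F) := LinearMap.pi fun i => B (y i)
  suffices h : Function.Surjective f by
    obtain ⟨v, hv⟩ := h c
    exact ⟨v, fun i => congrFun hv i⟩
  rw [← LinearMap.dualMap_injective_iff]
  refine (injective_iff_map_eq_zero _).mpr fun φ hφ => ?_
  refine LinearMap.pi_ext' fun i => LinearMap.ext_ring ?_
  simp only [LinearMap.comp_apply, LinearMap.single_apply, LinearMap.zero_apply]
  have key : ∑ i, φ (Pi.single i 1) • y i = 0 := hB.1 _ fun v => by
    have h0 : φ (f v) = 0 := LinearMap.congr_fun hφ v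
    rw [pi_eq_sum_univ' (f v)] at h0
    simp only [map_sum, map_smul, smul_eq_mul] at h0
    simp only [map_sum, map_smul, LinearMap.sum_apply, LinearMap.smul_apply, smul_eq_mul]
    rw [← h0]
    exact Finset.sum_congr rfl fun i _ => mul_comm _ _
  exact Fintype.linearIndependent_iff.mp hy _ key i

variable [CharP F 2]

theorem tensor_isInvolDiff (hA : B.IsAlt) {σ : Fin s → Fin s} (hσ : Function.Involutive σ) {y : Fin s → V}
    (hy : ∀ i l, B (y i) (y l) = 0) : IsInvolDiff B (tensor B σ y) := by
  refine ⟨fun u v => ?_, fun v => ?_⟩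
  · simp only [tensor_apply, map_sum, map_smul, LinearMap.sum_apply, LinearMap.smul_apply, smul_eq_mul]
    refine Fintype.sum_equiv (Function.Involutive.toPerm σ hσ) _ _ fun i => ?_
    simp only [Function.Involutive.coe_toPerm, hσ i]
    rw [apply_comm hA u (y (σ i)), mul_comm]
  · simp [tensor_apply, hy]

omit [CharP F 2] in
theorem tensor_range (hB : B.Nondegenerate) {σ : Fin s → Fin s} (hσ : Function.Involutive σ) {y : Fin s → V}
    (hy : LinearIndependent F y) : LinearMap.range (tensor B σ y) = Submodule.span F (Set.range y) := by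
  refine le_antisymm ?_ (Submodule.span_le.mpr ?_)
  · rintro _ ⟨v, rfl⟩
    rw [tensor_apply]
    exact Submodule.sum_mem _ fun i _ => Submodule.smul_mem _ _ (Submodule.subset_span ⟨i, rfl⟩)
  · rintro _ ⟨i, rfl⟩
    obtain ⟨v, hv⟩ := exists_dual hB hy fun l => if σ l = i then 1 else 0
    refine ⟨v, ?_⟩
    rw [tensor_apply]
    simp [hv, hσ _]

omit [CharP F 2] in
theorem tensor_rank (hB : B.Nondegenerate) {σ : Fin s → Fin s} (hσ : Function.Involutive σ) {y : Fin s → V}
    (hy : LinearIndependent F y) : finrank F (LinearMap.range (tensor B σ y)) = s := by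
  rw [tensor_range hB hσ hy, finrank_span_eq_card hy, Fintype.card_fin]

theorem tensor_rev_isAltType {k : ℕ} (y : Fin (k + k) → V) : IsAltType B (tensor B Fin.rev y) := by
  intro v
  simp only [tensor_apply, map_sum, map_smul, LinearMap.sum_apply, LinearMap.smul_apply, smul_eq_mul]
  refine Finset.sum_involution (fun i _ => Fin.rev i) (fun i _ => ?_) (fun i _ _ => ?_)
    (fun _ _ => Finset.mem_univ _) (fun i _ => Fin.rev_rev i)
  · rw [Fin.rev_rev, mul_comm, CharTwo.add_self_eq_zero]
  · intro h
    have := congrArg Fin.val h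
    rw [Fin.val_rev] at this
    omega

theorem tensor_id_not_altType (hB : B.Nondegenerate) {y : Fin s → V} (hy : LinearIndependent F y)
    (hs : s ≠ 0) : ¬ IsAltType B (tensor B id y) := by
  intro h
  let i₀ : Fin s := ⟨0, Nat.pos_of_ne_zero hs⟩
  obtain ⟨v, hv⟩ := exists_dual hB hy fun l => if l = i₀ then 1 else 0
  have h0 := h v
  simp [tensor_apply, map_sum, LinearMap.sum_apply, hv] at h0

/-! ### The form on the image -/

omit [CharP F 2] in
theorem exists_rightInv (N : V →ₗ[F] V) :
    ∃ σ : LinearMap.range N →ₗ[F] V, ∀ y, N (σ y) = y.1 := by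
  obtain ⟨σ, hσ⟩ := LinearMap.exists_rightInverse_of_surjective N.rangeRestrict
    (LinearMap.range_rangeRestrict N)
  exact ⟨σ, fun y => congrArg Subtype.val (LinearMap.congr_fun hσ y)⟩

/-- The form `(Nu, Nv) ↦ B(Nu, v)` on the image of `N`. -/
noncomputable def imForm (B : LinearMap.BilinForm F V) (N : V →ₗ[F] V) :
    LinearMap.BilinForm F (LinearMap.range N) :=
  LinearMap.compl₁₂ B (LinearMap.range N).subtype (exists_rightInv N).choose

variable {N N' : V →ₗ[F] V}

omit [CharP F 2] in
theorem imForm_apply (hN : IsInvolDiff B N) (y y' : LinearMap.range N) (u : V) (hu : N u = y'.1) :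
    imForm B N y y' = B y.1 u := by
  show B y.1 ((exists_rightInv N).choose y') = B y.1 u
  obtain ⟨x, hx⟩ := y.2
  rw [← sub_eq_zero, ← map_sub, ← hx, hN.adj, map_sub, (exists_rightInv N).choose_spec y', hu, sub_self,
    map_zero]

omit [CharP F 2] in
theorem range_isotropic (hN : IsInvolDiff B N) {y y' : V} (hy : y ∈ LinearMap.range N)
    (hy' : y' ∈ LinearMap.range N) : B y y' = 0 := by
  obtain ⟨u, rfl⟩ := hy
  obtain ⟨u', rfl⟩ := hy'
  rw [hN.adj, hN.sq, map_zero]

theorem imForm_symm (hA : B.IsAlt) (hN : IsInvolDiff B N) (y y' : LinearMap.range N) :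
    imForm B N y y' = imForm B N y' y := by
  obtain ⟨u, hu⟩ := y.2
  obtain ⟨u', hu'⟩ := y'.2
  rw [imForm_apply hN y y' u' hu', imForm_apply hN y' y u hu, ← hu, ← hu', hN.adj, apply_comm hA]

omit [CharP F 2] in
theorem imForm_nondeg (hB : B.Nondegenerate) (hN : IsInvolDiff B N) (y : LinearMap.range N)
    (h : ∀ y', imForm B N y y' = 0) : y = 0 :=
  Subtype.ext (hB.1 _ fun u => (imForm_apply hN y ⟨N u, u, rfl⟩ u rfl).symm.trans (h _))

omit [CharP F 2] in
theorem imForm_alt_iff (hN : IsInvolDiff B N) : (imForm B N).IsAlt ↔ IsAltType B N := by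
  constructor
  · intro h v
    have := h ⟨N v, v, rfl⟩
    rwa [imForm_apply hN _ _ v rfl] at this
  · intro h y
    obtain ⟨u, hu⟩ := y.2
    rw [imForm_apply hN y y u hu, ← hu]
    exact h u

/-- Representations of `N` are standard bases of the image. -/
theorem tensor_eq_iff (hA : B.IsAlt) (hB : B.Nondegenerate) (hN : IsInvolDiff B N)
    (hs : finrank F (LinearMap.range N) = s) {σ : Fin s → Fin s} (hσ : Function.Involutive σ) (y : Fin s → V) :
    tensor B σ y = N ↔
      ∃ h : ∀ i, y i ∈ LinearMap.range N, GramTuple (imForm B N) σ fun i => ⟨y i, h i⟩ := by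
  constructor
  · intro heq
    have hle : LinearMap.range N ≤ Submodule.span F (Set.range y) := by
      rw [← heq]
      rintro _ ⟨v, rfl⟩
      rw [tensor_apply]
      exact Submodule.sum_mem _ fun i _ => Submodule.smul_mem _ _ (Submodule.subset_span ⟨i, rfl⟩)
    have hy : LinearIndependent F y := by
      rw [linearIndependent_iff_card_eq_finrank_span, Fintype.card_fin]
      refine le_antisymm ?_ ((finrank_range_le_card y).trans (Fintype.card_fin s).le)
      exact hs.symm.le.trans (Submodule.finrank_mono hle)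
    have hr := tensor_range hB hσ hy
    rw [heq] at hr
    refine ⟨fun i => hr ▸ Submodule.subset_span ⟨i, rfl⟩, fun i l => ?_⟩
    obtain ⟨x, hx⟩ := exists_dual hB hy fun j => if σ j = l then 1 else 0
    have hNx : N x = y l := by
      rw [← heq, tensor_apply]
      simp [hx, hσ _]
    rw [imForm_apply hN _ _ x hNx, hx]
  · rintro ⟨h, hg⟩
    have hyS := hg.linearIndependent hσ
    have hy : LinearIndependent F y := hyS.map' (LinearMap.range N).subtype (Submodule.ker_subtype _)
    have h' := h
    choose x hx using h'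
    have hBx : ∀ i l, B (y i) (x l) = if σ i = l then 1 else 0 := fun i l => by
      rw [← hg i l]
      exact (imForm_apply hN (⟨y i, _⟩ : LinearMap.range N) ⟨y l, _⟩ (x l) (hx l)).symm
    have hspan : Submodule.span F (Set.range y) = LinearMap.range N := by
      refine Submodule.eq_of_le_of_finrank_eq (Submodule.span_le.mpr ?_)
        (by rw [finrank_span_eq_card hy, Fintype.card_fin, hs])
      rintro _ ⟨i, rfl⟩
      exact ⟨x i, hx i⟩
    refine LinearMap.ext fun v => ?_
    have hD : N v - tensor B σ y v ∈ Submodule.span F (Set.range y) := by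
      refine Submodule.sub_mem _ (hspan ▸ LinearMap.mem_range_self N v) ?_
      rw [tensor_apply]
      exact Submodule.sum_mem _ fun i _ => Submodule.smul_mem _ _ (Submodule.subset_span ⟨i, rfl⟩)
    obtain ⟨c, hc⟩ := Submodule.mem_span_range_iff_exists_fun F |>.mp hD
    have hDx : ∀ l, B (N v - tensor B σ y v) (x l) = 0 := fun l => by
      rw [map_sub, LinearMap.sub_apply, hN.adj, hx, tensor_apply]
      simp only [map_sum, map_smul, LinearMap.sum_apply, LinearMap.smul_apply, smul_eq_mul, hBx, mul_ite,
        mul_one, mul_zero]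
      rw [Finset.sum_eq_single (σ l) (fun i _ hi => if_neg fun h => hi (by rw [← h, hσ])) (by simp),
        if_pos (hσ l), hσ, apply_comm hA, sub_self]
    have hc0 : ∀ l, c (σ l) = 0 := fun l => by
      have h := hDx l
      rw [← hc] at h
      simp only [map_sum, map_smul, LinearMap.sum_apply, LinearMap.smul_apply, smul_eq_mul, hBx, mul_ite,
        mul_one, mul_zero] at h
      rwa [Finset.sum_eq_single (σ l) (fun i _ hi => if_neg fun h => hi (by rw [← h, hσ])) (by simp),
        if_pos (hσ l)] at h
    have h0 : N v - tensor B σ y v = 0 := by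
      rw [← hc]
      exact Finset.sum_eq_zero fun i _ => by rw [← hσ i, hc0, zero_smul]
    exact (sub_eq_zero.mp h0).symm

/-- Representations of `N` are equinumerous with standard bases of the image. -/
theorem card_tensor_eq (hA : B.IsAlt) (hB : B.Nondegenerate) (hN : IsInvolDiff B N)
    (hs : finrank F (LinearMap.range N) = s) {σ : Fin s → Fin s} (hσ : Function.Involutive σ) :
    Nat.card {y : Fin s → V // tensor B σ y = N} =
      Nat.card {y : Fin s → LinearMap.range N // GramTuple (imForm B N) σ y} := by
  refine Nat.card_congr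
    { toFun := fun y => ⟨fun i => ⟨y.1 i, ((tensor_eq_iff hA hB hN hs hσ y.1).mp y.2).1 i⟩,
        ((tensor_eq_iff hA hB hN hs hσ y.1).mp y.2).2⟩
      invFun := fun y => ⟨fun i => (y.1 i).1, (tensor_eq_iff hA hB hN hs hσ _).mpr ⟨fun i => (y.1 i).2, y.2⟩⟩
      left_inv := fun y => rfl
      right_inv := fun y => rfl }

theorem rank_le (hB : B.Nondegenerate) (hN : IsInvolDiff B N) :
    2 * finrank F (LinearMap.range N) ≤ finrank F V := by
  have h := LinearMap.finrank_range_add_finrank_ker N
  have hle : LinearMap.range N ≤ LinearMap.ker N := by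
    rintro _ ⟨u, rfl⟩
    exact LinearMap.mem_ker.mpr (hN.sq u)
  have := Submodule.finrank_mono hle
  omega

/-! ### Normal forms -/

section Finite

variable [Fintype F]

theorem card_tensor_alt (hA : B.IsAlt) (hB : B.Nondegenerate) (hN : IsInvolDiff B N) (halt : IsAltType B N)
    {k : ℕ} (hs : finrank F (LinearMap.range N) = k + k) :
    Nat.card {y : Fin (k + k) → V // tensor B Fin.rev y = N} = spOrd (Fintype.card F) k := by
  rw [card_tensor_eq hA hB hN hs Fin.rev_involutive]
  refine card_gram_rev _ ((imForm_alt_iff hN).mpr halt) ⟨imForm_nondeg hB hN, fun y h => ?_⟩ hs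
  exact imForm_nondeg hB hN y fun y' => by rw [imForm_symm hA hN]; exact h y'

theorem card_tensor_not_alt (hA : B.IsAlt) (hB : B.Nondegenerate) (hN : IsInvolDiff B N)
    (hna : ¬ IsAltType B N) (hs : finrank F (LinearMap.range N) = s) :
    Nat.card {y : Fin s → V // tensor B id y = N} = onCount (Fintype.card F) s := by
  rw [card_tensor_eq hA hB hN hs (σ := id) (fun _ => rfl)]
  set β := imForm B N with hβ
  have hsym : ∀ x y, β x y = β y x := imForm_symm hA hN
  let e := frobeniusEquiv F 2
  have he : ∀ x : F, (e.symm x) ^ 2 = x := fun x => frobenius_apply_frobeniusEquiv_symm F 2 x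
  let lam : LinearMap.range N →ₗ[F] F :=
    { toFun := fun x => e.symm (β x x)
      map_add' := fun x y => by
        rw [← map_add e.symm]
        congr 1
        simp only [map_add, LinearMap.add_apply, hsym y x]
        linear_combination (β x y) * CharTwo.two_eq_zero (R := F)
      map_smul' := fun c x => by
        apply e.injective
        simp only [map_smul, LinearMap.smul_apply, smul_eq_mul, RingHom.id_apply, map_mul, e.apply_symm_apply]
        simp only [e, frobeniusEquiv_apply, frobenius_def]
        ring }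
  obtain ⟨w, hw⟩ : ∃ w, β w = lam := by
    have hinj : Function.Injective β := (injective_iff_map_eq_zero _).mpr fun x hx =>
      imForm_nondeg hB hN x fun y => LinearMap.congr_fun hx y
    exact (LinearMap.injective_iff_surjective_of_finrank_eq_finrank
      (Subspace.dual_finrank_eq (K := F) (V := LinearMap.range N)).symm).mp hinj lam
  have hw2 : ∀ x, β x x = β w x ^ 2 := fun x => by
    rw [hw]
    exact (he (β x x)).symm
  refine (card_orthonormal_aux s (LinearMap.range N) β hsym (imForm_nondeg hB hN) hs w hw2 fun _ h => ?_).1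
  refine hna ((imForm_alt_iff hN).mp fun x => ?_)
  rw [← hβ, hw2, h, map_zero, LinearMap.zero_apply]
  simp

theorem even_of_alt (hA : B.IsAlt) (hB : B.Nondegenerate) (hN : IsInvolDiff B N) (halt : IsAltType B N)
    (hs : finrank F (LinearMap.range N) = s) : ∃ k, s = k + k := by
  obtain ⟨m, k, b, -, -, -, h4⟩ := exists_sympBasis (imForm B N) ((imForm_alt_iff hN).mpr halt)
  have hk : k = 0 := by
    by_contra hk
    exact b.ne_zero (Sum.inr ⟨0, Nat.pos_of_ne_zero hk⟩) (imForm_nondeg hB hN _ (h4 _))
  subst hk
  have := Module.finrank_eq_card_basis b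
  simp only [Fintype.card_sum, Fintype.card_fin, hs] at this
  exact ⟨m, by omega⟩

/-- The permutation attached to a type. -/
noncomputable def typePerm (s : ℕ) (p : Prop) : Fin s → Fin s := by
  classical exact if p then Fin.rev else id

theorem typePerm_invol (s : ℕ) (p : Prop) : Function.Involutive (typePerm s p) := by
  unfold typePerm
  split_ifs
  · exact Fin.rev_involutive
  · exact fun _ => rfl

theorem exists_tensor (hA : B.IsAlt) (hB : B.Nondegenerate) (hN : IsInvolDiff B N)
    (hs : finrank F (LinearMap.range N) = s) :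
    ∃ y : Fin s → V, tensor B (typePerm s (IsAltType B N)) y = N := by
  unfold typePerm
  split_ifs with halt
  · obtain ⟨k, rfl⟩ := even_of_alt hA hB hN halt hs
    have h := spOrd_pos (Fintype.one_lt_card (α := F)) k
    rw [← card_tensor_alt hA hB hN halt hs] at h
    obtain ⟨⟨⟨y, hy⟩⟩, -⟩ := Nat.card_pos_iff.mp h
    exact ⟨y, hy⟩
  · have h := onCount_pos (Fintype.one_lt_card (α := F)) s
    rw [← card_tensor_not_alt hA hB hN halt hs] at h
    obtain ⟨⟨⟨y, hy⟩⟩, -⟩ := Nat.card_pos_iff.mp h
    exact ⟨y, hy⟩

theorem tensor_li (hA : B.IsAlt) (hB : B.Nondegenerate) (hN : IsInvolDiff B N)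
    (hs : finrank F (LinearMap.range N) = s) {σ : Fin s → Fin s} (hσ : Function.Involutive σ) {y : Fin s → V}
    (hy : tensor B σ y = N) :
    LinearIndependent F y ∧ ∀ i l, B (y i) (y l) = 0 := by
  obtain ⟨h, hg⟩ := (tensor_eq_iff hA hB hN hs hσ y).mp hy
  exact ⟨(hg.linearIndependent hσ).map' (LinearMap.range N).subtype (Submodule.ker_subtype _),
    fun i l => range_isotropic hN (h i) (h l)⟩

/-- Involutions of the same type are conjugate under isometries of the alternating form. -/
theorem exists_conj (hA : B.IsAlt) (hB : B.Nondegenerate) (hN : IsInvolDiff B N) (hN' : IsInvolDiff B N')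
    (hrk : finrank F (LinearMap.range N) = finrank F (LinearMap.range N'))
    (htype : IsAltType B N ↔ IsAltType B N') :
    ∃ g : V ≃ₗ[F] V, (∀ u v, B (g u) (g v) = B u v) ∧ ∀ v, g (N v) = N' (g v) := by
  set s := finrank F (LinearMap.range N') with hs'
  obtain ⟨y, hy⟩ := exists_tensor hA hB hN hrk
  obtain ⟨y', hy'⟩ := exists_tensor hA hB hN' hs'.symm
  rw [← propext htype] at hy'
  set σ := typePerm s (IsAltType B N)
  have hσ : Function.Involutive σ := typePerm_invol _ _
  obtain ⟨hli, hiso⟩ := tensor_li hA hB hN hrk hσ hy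
  obtain ⟨hli', hiso'⟩ := tensor_li hA hB hN' hs'.symm hσ hy'
  let b := Module.Basis.span hli
  let φ : Submodule.span F (Set.range y) →ₗ[F] V := b.constr F y'
  have hb : ∀ a, ((b a : Submodule.span F (Set.range y)) : V) = y a := fun a =>
    congrArg Subtype.val (Module.Basis.span_apply hli a)
  have hφ : ∀ x, φ x = ∑ i, b.equivFun x i • y' i := fun x => by
    rw [show φ x = b.constr F y' x from rfl, Module.Basis.constr_apply_fintype]
  have hinj : Function.Injective φ := by
    refine (injective_iff_map_eq_zero _).mpr fun x hx => ?_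
    rw [hφ] at hx
    exact b.equivFun.map_eq_zero_iff.mp (funext fun i => Fintype.linearIndependent_iff.mp hli' _ hx i)
  have hz : ∀ (z : Fin s → V), (∀ i l, B (z i) (z l) = 0) → ∀ c d : Fin s → F,
      B (∑ i, c i • z i) (∑ i, d i • z i) = 0 := fun z hz c d => by
    simp only [map_sum, map_smul, LinearMap.sum_apply, LinearMap.smul_apply, hz, smul_zero,
      Finset.sum_const_zero]
  have hcoe : ∀ x : Submodule.span F (Set.range y), (x : V) = ∑ i, b.equivFun x i • y i := fun x => by
    conv_lhs => rw [← b.sum_equivFun x]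
    rw [Submodule.coe_sum]
    exact Finset.sum_congr rfl fun i _ => by rw [Submodule.coe_smul, hb]
  obtain ⟨g, hg, hgx⟩ := witt_alternating B hB hA (Submodule.span F (Set.range y)) φ hinj (fun x x' => by
    rw [hφ, hφ, hz y' hiso', hcoe x, hcoe x', hz y hiso])
  refine ⟨g, hg, fun v => ?_⟩
  have hgy : ∀ i, g (y i) = y' i := fun i => by
    rw [← hb i]
    exact (hgx (b i)).trans (b.constr_basis F y' i)
  rw [← hy, ← hy', tensor_apply, tensor_apply, map_sum]
  exact Finset.sum_congr rfl fun i _ => by rw [map_smul, hgy, ← hgy (σ i), hg]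

end Finite

end Cfsg.Agent.Lib.Classical.CharTwoInvol
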