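import Mathlib

/-!
The sign character of a finite field of characteristic two and the Gauss sum of a quadratic form.
-/

set_option autoImplicit false

namespace Cfsg.Agent.Lib.Classical.CharTwoInvol

open QuadraticMap (polarBilin)
open Module (finrank)

attribute [-simp] QuadraticMap.polarBilin_apply_apply

variable (F : Type*) [Field F] [CharP F 2]

variable {F} in
theorem quad_add' {V : Type*} [AddCommGroup V] [Module F V] (Q : QuadraticForm F V) (x y : V) : Q (x + y) = Q x + Q y + polarBilin Q x y := by
  rw [QuadraticMap.polarBilin_apply_apply]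
  exact QuadraticMap.map_add Q x y

variable {F} in
theorem polar_isAlt {V : Type*} [AddCommGroup V] [Module F V] (Q : QuadraticForm F V) : (polarBilin Q).IsAlt := fun v => by
  rw [QuadraticMap.polarBilin_apply_apply, QuadraticMap.polar_self, nsmul_eq_mul, Nat.cast_ofNat,
    CharTwo.two_eq_zero, zero_mul]


/-- `c ↦ c² + c`. -/
def asHom : F →+ F where
  toFun c := c * c + c
  map_zero' := by simp
  map_add' a b := by
    linear_combination (a * b) * CharTwo.two_eq_zero (R := F)

theorem asHom_apply (c : F) : asHom F c = c * c + c := rfl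

variable [Fintype F]

theorem asRange_index : (asHom F).range.index = 2 := by
  have hker : Nat.card (asHom F).ker = 2 := by
    have hset : ((asHom F).ker : Set F) = {0, 1} := by
      ext x
      simp only [SetLike.mem_coe, AddMonoidHom.mem_ker, asHom_apply, Set.mem_insert_iff, Set.mem_singleton_iff]
      constructor
      · intro h
        rcases mul_eq_zero.mp (show x * (x + 1) = 0 by linear_combination h) with h' | h'
        · exact Or.inl h'
        · exact Or.inr (CharTwo.add_eq_zero.mp h')
      · rintro (rfl | rfl)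
        · simp
        · rw [one_mul, CharTwo.add_self_eq_zero]
    rw [← SetLike.coe_sort_coe, hset, Nat.card_coe_set_eq, Set.ncard_pair zero_ne_one]
  have h1 := AddSubgroup.index_ker (asHom F)
  have h2 := (asHom F).ker.card_mul_index
  have h3 := (asHom F).range.card_mul_index
  rw [hker] at h2
  rw [h1] at h2
  rw [← h2, mul_comm 2] at h3
  exact Nat.eq_of_mul_eq_mul_left Nat.card_pos h3

variable {F}

/-- `1` on the elements `c² + c`, and `-1` elsewhere. -/
noncomputable def chi (x : F) : ℤ := by
  classical exact if x ∈ (asHom F).range then 1 else -1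

theorem chi_add (x y : F) : chi (x + y) = chi x * chi y := by
  classical
  have h := AddSubgroup.add_mem_iff_of_index_two (asRange_index F) (a := x) (b := y)
  simp only [chi, h]
  by_cases hx : x ∈ (asHom F).range <;> by_cases hy : y ∈ (asHom F).range <;> simp [hx, hy]

theorem chi_eq_one_iff (x : F) : chi x = 1 ↔ ∃ c, x = c * c + c := by
  classical
  simp only [chi]
  constructor
  · intro h
    split_ifs at h with hx
    · obtain ⟨c, hc⟩ := hx
      exact ⟨c, hc.symm⟩
  · rintro ⟨c, rfl⟩
    exact if_pos ⟨c, rfl⟩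

theorem chi_ne_one {x : F} (h : chi x ≠ 1) : chi x = -1 := by
  classical
  simp only [chi] at h ⊢
  split_ifs at h ⊢
  · exact absurd rfl h
  · rfl

theorem chi_zero : chi (0 : F) = 1 := (chi_eq_one_iff 0).mpr ⟨0, by simp⟩

theorem chi_self_sq (x : F) : chi x * chi x = 1 := by
  rw [← chi_add, CharTwo.add_self_eq_zero, chi_zero]

theorem chi_sq (c : F) : chi (c * c) = chi c := by
  have h : chi (c * c + c) = 1 := (chi_eq_one_iff _).mpr ⟨c, rfl⟩
  rw [chi_add] at h
  calc chi (c * c) = chi (c * c) * (chi c * chi c) := by rw [chi_self_sq, mul_one]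
    _ = chi c := by rw [← mul_assoc, h, one_mul]

theorem exists_chi_neg : ∃ x : F, chi x = -1 := by
  classical
  by_contra hno
  push Not at hno
  have htop : (asHom F).range = ⊤ := eq_top_iff.mpr fun x _ => by
    by_contra hx
    exact hno x (by simp [chi, hx])
  have := asRange_index F
  rw [htop, AddSubgroup.index_top] at this
  omega

theorem sum_chi_hom {W : Type*} [AddCommGroup W] [Fintype W] (f : W →+ F) {w₀ : W} (h : chi (f w₀) = -1) :
    ∑ w, chi (f w) = 0 := by
  have h1 : ∑ w, chi (f w) = ∑ w, chi (f (w + w₀)) :=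
    (Fintype.sum_equiv (Equiv.addRight w₀) _ _ fun w => rfl).symm
  simp only [map_add, chi_add, h, ← Finset.sum_mul] at h1
  omega

variable {V : Type*} [AddCommGroup V] [Module F V] [Fintype V]

theorem sum_chi_linear (f : V →ₗ[F] F) (hf : f ≠ 0) : ∑ v, chi (f v) = 0 := by
  obtain ⟨x, hx⟩ := exists_chi_neg (F := F)
  obtain ⟨v, hv⟩ := LinearMap.surjective hf x
  exact sum_chi_hom f.toAddMonoidHom (w₀ := v) (by show chi (f v) = -1; rw [hv, hx])

theorem sum_chi_univ : ∑ c : F, chi c = 0 := by
  obtain ⟨x, hx⟩ := exists_chi_neg (F := F)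
  exact sum_chi_hom (AddMonoidHom.id F) (w₀ := x) hx

/-- The Gauss sum. -/
noncomputable def gauss (Q : QuadraticForm F V) : ℤ := ∑ v, chi (Q v)

theorem gauss_mul_self (Q : QuadraticForm F V) (hQ : (polarBilin Q).Nondegenerate) :
    gauss Q * gauss Q = Fintype.card V := by
  classical
  have h1 : gauss Q * gauss Q = ∑ d, chi (Q d) * ∑ v, chi ((polarBilin Q).flip d v) := by
    rw [gauss, Finset.sum_mul_sum]
    simp only [Finset.mul_sum]
    rw [Finset.sum_comm (s := (Finset.univ : Finset V)) (f := fun d v => chi (Q d) * chi ((polarBilin Q).flip d v))]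
    refine Finset.sum_congr rfl fun v _ => ?_
    refine (Fintype.sum_equiv (Equiv.addLeft v) _ _ fun d => ?_).symm
    show chi (Q d) * chi (polarBilin Q v d) = chi (Q v) * chi (Q (v + d))
    rw [quad_add', chi_add, chi_add, ← mul_assoc, ← mul_assoc, chi_self_sq, one_mul]
  rw [h1, Finset.sum_eq_single 0]
  · simp [chi_zero]
  · intro d _ hd
    rw [sum_chi_linear _ fun h => hd (hQ.2 d fun v => LinearMap.congr_fun h v), mul_zero]
  · simp

theorem gauss_ne_zero (Q : QuadraticForm F V) (hQ : (polarBilin Q).Nondegenerate) : gauss Q ≠ 0 := fun h => by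
  have h' := gauss_mul_self Q hQ
  rw [h, mul_zero] at h'
  have : 0 < Fintype.card V := Fintype.card_pos
  omega

/-- Forms differing by the square of `B(u, ·)` that are isometric have `Q u` of the shape `c² + c`. -/
theorem chi_shift (Q : QuadraticForm F V) (hQ : (polarBilin Q).Nondegenerate) (g : V ≃ₗ[F] V) (u : V)
    (hg : ∀ v, Q (g v) = Q v + polarBilin Q u v * polarBilin Q u v) : chi (Q u) = 1 := by
  have h : gauss Q = chi (Q u) * gauss Q := by
    calc gauss Q = ∑ v, chi (Q (g v)) := (Fintype.sum_equiv g.toEquiv _ _ fun _ => rfl).symm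
      _ = ∑ v, chi (Q u) * chi (Q (v + u)) := Finset.sum_congr rfl fun v _ => by
        have hc : polarBilin Q v u = polarBilin Q u v := by
          rw [QuadraticMap.polarBilin_apply_apply, QuadraticMap.polarBilin_apply_apply, QuadraticMap.polar_comm]
        rw [hg, quad_add', chi_add, chi_add, chi_add, chi_sq, hc]
        linear_combination (- chi (Q v) * chi (polarBilin Q u v)) * chi_self_sq (Q u)
      _ = chi (Q u) * gauss Q := by
        rw [gauss, Finset.mul_sum]
        exact Fintype.sum_equiv (Equiv.addRight u) _ _ fun _ => rfl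
  by_contra hne
  rw [chi_ne_one hne] at h
  exact gauss_ne_zero Q hQ (by omega)

/-- Translating by a subspace with a trivial character. -/
theorem gauss_eq_sum_perp (Q : QuadraticForm F V) (U : Submodule F V) (hU : ∀ u ∈ U, Q u = 0)
    (P : Submodule F V) (hP : ∀ v, v ∈ P ↔ ∀ u ∈ U, polarBilin Q v u = 0) [Fintype U] [Fintype P] :
    gauss Q = ∑ v : P, chi (Q v.1) := by
  classical
  have hUne : (Fintype.card U : ℤ) ≠ 0 := by exact_mod_cast (Fintype.card_pos).ne'
  refine mul_left_cancel₀ hUne ?_
  have h1 : (Fintype.card U : ℤ) * gauss Q = ∑ u : U, ∑ v, chi (Q (v + u.1)) := by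
    rw [Finset.sum_congr rfl fun u _ => show ∑ v, chi (Q (v + u.1)) = gauss Q from
      Fintype.sum_equiv (Equiv.addRight u.1) _ _ fun _ => rfl]
    simp
  rw [h1, Finset.sum_comm]
  have h2 : ∀ v, ∑ u : U, chi (Q (v + u.1)) =
      if v ∈ P then (Fintype.card U : ℤ) * chi (Q v) else 0 := fun v => by
    have : ∀ u : U, chi (Q (v + u.1)) = chi (Q v) * chi ((polarBilin Q v).comp U.subtype u) := fun u => by
      rw [quad_add', hU u.1 u.2, add_zero, chi_add]
      rfl
    simp only [this, ← Finset.mul_sum]
    split_ifs with hv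
    · have h0 : ∀ u : U, chi ((polarBilin Q v).comp U.subtype u) = 1 := fun u => by
        rw [LinearMap.comp_apply]
        show chi (polarBilin Q v u.1) = 1
        rw [(hP v).mp hv u.1 u.2, chi_zero]
      rw [Finset.sum_congr rfl fun u _ => h0 u]
      simp [mul_comm]
    · rw [sum_chi_linear _ fun h => hv ((hP v).mpr fun u hu => LinearMap.congr_fun h ⟨u, hu⟩), mul_zero]
  simp only [h2]
  rw [← Finset.sum_filter, Finset.mul_sum]
  exact Finset.sum_subtype _ (fun x => by simp) _

theorem gauss_anisotropic (Q : QuadraticForm F V) (hani : ∀ v, Q v = 0 → v = 0) :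
    ((Fintype.card F : ℤ) - 1) * (gauss Q - 1) = - ((Fintype.card V : ℤ) - 1) := by
  classical
  have hg : gauss Q - 1 = ∑ v ∈ Finset.univ.erase (0 : V), chi (Q v) := by
    rw [Finset.sum_erase_eq_sub (Finset.mem_univ _), map_zero, chi_zero, gauss]
  rw [hg]
  have key : ∀ v ∈ Finset.univ.erase (0 : V), ∑ c ∈ Finset.univ.erase (0 : F), chi (Q (c • v)) = -1 := by
    intro v hv
    have hQv : Q v ≠ 0 := fun h => Finset.ne_of_mem_erase hv (hani v h)
    obtain ⟨r, hr⟩ := FiniteField.isSquare_of_char_two (ringChar.eq F 2) (Q v)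
    have hr0 : r ≠ 0 := fun h => hQv (by rw [hr, h, mul_zero])
    rw [Finset.sum_congr rfl fun c _ => show chi (Q (c • v)) = chi (c * r) by
      rw [QuadraticMap.map_smul, smul_eq_mul, hr, show c * c * (r * r) = (c * r) * (c * r) by ring, chi_sq]]
    rw [Finset.sum_erase_eq_sub (Finset.mem_univ _), zero_mul, chi_zero,
      Fintype.sum_equiv (Equiv.mulRight₀ r hr0) (fun c => chi (c * r)) chi (fun _ => rfl), sum_chi_univ]
    rfl
  have h2 := Finset.sum_congr rfl key
  rw [Finset.sum_comm, Finset.sum_const, Finset.card_erase_of_mem (Finset.mem_univ _), Finset.card_univ] at h2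
  have h3 : ∀ c ∈ Finset.univ.erase (0 : F),
      ∑ v ∈ Finset.univ.erase (0 : V), chi (Q (c • v)) = ∑ v ∈ Finset.univ.erase (0 : V), chi (Q v) := by
    intro c hc
    have hc0 : c ≠ 0 := Finset.ne_of_mem_erase hc
    refine Finset.sum_bij' (fun v _ => c • v) (fun v _ => c⁻¹ • v) ?_ ?_ ?_ ?_ (fun _ _ => rfl)
    · intro v hv
      exact Finset.mem_erase.mpr ⟨smul_ne_zero hc0 (Finset.ne_of_mem_erase hv), Finset.mem_univ _⟩
    · intro v hv
      exact Finset.mem_erase.mpr ⟨smul_ne_zero (inv_ne_zero hc0) (Finset.ne_of_mem_erase hv), Finset.mem_univ _⟩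
    · intro v _
      exact inv_smul_smul₀ hc0 v
    · intro v _
      exact smul_inv_smul₀ hc0 v
  rw [Finset.sum_congr rfl h3, Finset.sum_const, Finset.card_erase_of_mem (Finset.mem_univ _),
    Finset.card_univ] at h2
  simp only [nsmul_eq_mul] at h2
  rw [Nat.cast_sub Fintype.card_pos, Nat.cast_sub Fintype.card_pos, Nat.cast_one] at h2
  linear_combination h2

theorem two_card_chi (Q : QuadraticForm F V) (P : Submodule F V) [Fintype P] :
    2 * (Nat.card {u : P // chi (Q u.1) = 1} : ℤ) = Fintype.card P + ∑ u : P, chi (Q u.1) := by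
  classical
  have h : ∀ u : P, 1 + chi (Q u.1) = if chi (Q u.1) = 1 then (2 : ℤ) else 0 := fun u => by
    split_ifs with hu
    · rw [hu]; rfl
    · rw [chi_ne_one hu]; rfl
  have h' : (Fintype.card P : ℤ) + ∑ u : P, chi (Q u.1) = ∑ u : P, if chi (Q u.1) = 1 then (2 : ℤ) else 0 := by
    rw [← Finset.sum_congr rfl fun u _ => h u, Finset.sum_add_distrib]
    simp
  rw [h', ← Finset.sum_filter, Finset.sum_const, Nat.card_eq_fintype_card, Fintype.card_subtype,
    nsmul_eq_mul]
  ring

end Cfsg.Agent.Lib.Classical.CharTwoInvol
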