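import Cfsg.Agent.Lib.Classical.SympCard

/-!
Counting standard bases of non-degenerate symmetric bilinear forms in characteristic two.
-/

set_option autoImplicit false

namespace Cfsg.Agent.Lib.Classical.CharTwoInvol

open Module (finrank)
open Cfsg.Agent.Lib.Classical (IsSympFrame card_frames)

universe u v

variable {F : Type u} [Field F] {W : Type v} [AddCommGroup W] [Module F W]

/-- A tuple whose Gram matrix is the permutation matrix of `σ`. -/
def GramTuple (β : LinearMap.BilinForm F W) {s : ℕ} (σ : Fin s → Fin s) (y : Fin s → W) : Prop :=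
  ∀ i l, β (y i) (y l) = if σ i = l then 1 else 0

theorem GramTuple.linearIndependent {β : LinearMap.BilinForm F W} {s : ℕ} {σ : Fin s → Fin s}
    {y : Fin s → W} (h : GramTuple β σ y) (hσ : Function.Involutive σ) : LinearIndependent F y := by
  rw [Fintype.linearIndependent_iff]
  intro c hc i
  have h0 := congrArg (fun x => β x (y (σ i))) hc
  simpa [map_sum, LinearMap.sum_apply, h _ _, hσ.injective.eq_iff] using h0

/-- The number of orthonormal bases in dimension `s`. -/
def onCount (q : ℕ) : ℕ → ℕ
  | 0 => 1
  | s + 1 => (if s = 0 then 1 else if Even s then q ^ s - 1 else q ^ s) * onCount q s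

theorem eq_one_of_sq_eq_one [CharP F 2] {x : F} (h : x ^ 2 = 1) : x = 1 := by
  rcases sq_eq_one_iff.mp h with h | h
  · exact h
  · rwa [CharTwo.neg_eq] at h

theorem card_affine [Fintype F] [FiniteDimensional F W] {s : ℕ} (hdim : finrank F W = s + 1)
    (f : W →ₗ[F] F) (hf : f ≠ 0) :
    Nat.card {e : W // f e = 1} = Fintype.card F ^ s := by
  have hsurj := LinearMap.surjective hf
  obtain ⟨e₀, he₀⟩ := hsurj 1
  have hk : finrank F (LinearMap.ker f) = s := by
    have h := LinearMap.finrank_range_add_finrank_ker f
    rw [LinearMap.range_eq_top.mpr hsurj, finrank_top, Module.finrank_self, hdim] at h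
    omega
  haveI : Finite W := Module.finite_of_finite F
  have e : {e : W // f e = 1} ≃ LinearMap.ker f :=
    { toFun := fun x => ⟨x.1 - e₀, by rw [LinearMap.mem_ker, map_sub, x.2, he₀, sub_self]⟩
      invFun := fun x => ⟨x.1 + e₀, by rw [map_add, LinearMap.mem_ker.mp x.2, he₀, zero_add]⟩
      left_inv := fun x => Subtype.ext (sub_add_cancel _ _)
      right_inv := fun x => Subtype.ext (add_sub_cancel_right _ _) }
  rw [Nat.card_congr e, Module.natCard_eq_pow_finrank (K := F), hk, Nat.card_eq_fintype_card]

set_option maxHeartbeats 1000000 in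
/-- The count of orthonormal bases, with the norm of the diagonal vector. -/
theorem card_orthonormal_aux [Fintype F] [CharP F 2] : ∀ (s : ℕ) (W : Type v) [AddCommGroup W]
    [Module F W] [FiniteDimensional F W] (β : LinearMap.BilinForm F W),
    (∀ x y, β x y = β y x) → (∀ x, (∀ y, β x y = 0) → x = 0) → finrank F W = s →
    ∀ w : W, (∀ x, β x x = β w x ^ 2) → (s ≠ 0 → w ≠ 0) →
      Nat.card {y : Fin s → W // GramTuple β id y} = onCount (Fintype.card F) s ∧ β w w = (s : F) := by
  intro s
  induction s with
  | zero =>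
    intro W _ _ _ β _ _ hdim w _ _
    haveI := Module.finrank_zero_iff.mp hdim
    refine ⟨?_, by rw [Subsingleton.elim w 0]; simp⟩
    rw [onCount, Nat.card_eq_one_iff_exists]
    exact ⟨⟨Fin.elim0, fun i => i.elim0⟩, fun t => Subtype.ext (Subsingleton.elim _ _)⟩
  | succ s ih =>
    intro W _ _ _ β hsym hnd hdim w hw hw0
    classical
    haveI : Finite W := Module.finite_of_finite F
    have hwne : w ≠ 0 := hw0 s.succ_ne_zero
    have hβw : β w ≠ 0 := fun h => hwne (hnd w fun y => by rw [h]; rfl)
    have hA : ∀ e, β e e = 1 ↔ β w e = 1 := fun e => by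
      rw [hw]
      exact ⟨eq_one_of_sq_eq_one, fun h => by rw [h, one_pow]⟩
    have hcardA : Nat.card {e : W // β e e = 1} = Fintype.card F ^ s := by
      rw [Nat.card_congr (Equiv.subtypeEquivRight hA)]
      exact card_affine hdim _ hβw
    -- the orthogonal hyperplane of a unit vector
    let K : W → Submodule F W := fun e => LinearMap.ker (β e)
    let βK : ∀ e, LinearMap.BilinForm F (K e) := fun e => β.restrict (K e)
    have hKdim : ∀ e, β e e = 1 → finrank F (K e) = s := fun e he => by
      have hne : β e ≠ 0 := fun h => one_ne_zero (he.symm.trans (by rw [h]; rfl))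
      have h := LinearMap.finrank_range_add_finrank_ker (β e)
      rw [LinearMap.range_eq_top.mpr (LinearMap.surjective hne), finrank_top, Module.finrank_self, hdim] at h
      show finrank F (LinearMap.ker (β e)) = s
      omega
    have hKnd : ∀ e, β e e = 1 → ∀ x : K e, (∀ y : K e, βK e x y = 0) → x = 0 := fun e he x hx => by
      refine Subtype.ext (hnd x.1 fun v => ?_)
      have hxe : β x.1 e = 0 := by rw [hsym]; exact LinearMap.mem_ker.mp x.2
      have hm : v - β e v • e ∈ K e := by
        show v - β e v • e ∈ LinearMap.ker (β e)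
        rw [LinearMap.mem_ker, map_sub, map_smul, he, smul_eq_mul, mul_one, sub_self]
      have h : β x.1 (v - β e v • e) = 0 := hx ⟨_, hm⟩
      rwa [map_sub, map_smul, hxe, smul_zero, sub_zero] at h
    have hwe : ∀ e, β e e = 1 → w - e ∈ K e := fun e he => by
      show w - e ∈ LinearMap.ker (β e)
      rw [LinearMap.mem_ker, map_sub, he, hsym, (hA e).mp he, sub_self]
    have hKw : ∀ e (he : β e e = 1) (x : K e), βK e x x = βK e ⟨w - e, hwe e he⟩ x ^ 2 := fun e he x => by
      show β x.1 x.1 = β (w - e) x.1 ^ 2
      rw [map_sub, LinearMap.sub_apply, LinearMap.mem_ker.mp x.2, sub_zero]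
      exact hw x.1
    -- the splitting
    let E : {y : Fin (s + 1) → W // GramTuple β id y} ≃
        Σ e : {e : W // β e e = 1}, {y : Fin s → K e.1 // GramTuple (βK e.1) id y} :=
      { toFun := fun y => ⟨⟨y.1 0, by simpa using y.2 0 0⟩, fun i => ⟨y.1 i.succ, by
            show y.1 i.succ ∈ LinearMap.ker _
            rw [LinearMap.mem_ker]
            simpa [(Fin.succ_ne_zero i).symm] using y.2 0 i.succ⟩,
          fun i l => by
            show β (y.1 i.succ) (y.1 l.succ) = _
            simpa [Fin.succ_inj] using y.2 i.succ l.succ⟩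
        invFun := fun p => ⟨Fin.cons p.1.1 (fun i => ((p.2.1 i : K p.1.1) : W)), fun i l => by
          refine Fin.cases ?_ (fun i => ?_) i <;> refine Fin.cases ?_ (fun l => ?_) l
          · simpa using p.1.2
          · simpa [(Fin.succ_ne_zero l).symm] using LinearMap.mem_ker.mp (p.2.1 l).2
          · simpa [Fin.succ_ne_zero i, hsym] using LinearMap.mem_ker.mp (p.2.1 i).2
          · show β _ _ = _
            simp only [Fin.cons_succ, id, Fin.succ_inj]
            exact p.2.2 i l⟩
        left_inv := fun y => Subtype.ext (funext fun i => by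
          refine Fin.cases ?_ (fun i => ?_) i <;> simp)
        right_inv := fun ⟨e, t⟩ => rfl }
    haveI : Fintype {e : W // β e e = 1} := Fintype.ofFinite _
    rw [Nat.card_congr E, Nat.card_sigma]
    by_cases hs : s = 0
    · subst hs
      obtain ⟨⟨e₀, he₀⟩⟩ : Nonempty {e : W // β e e = 1} :=
        (Nat.card_pos_iff.mp (by rw [hcardA]; exact one_pos)).1
      have h0 : (⟨w - e₀, hwe e₀ he₀⟩ : K e₀) = 0 :=
        finrank_zero_iff_forall_zero.mp (hKdim e₀ he₀) _
      have hw' : w = e₀ := sub_eq_zero.mp (congrArg Subtype.val h0)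
      have hone : ∀ e : {e : W // β e e = 1},
          Nat.card {y : Fin 0 → K e.1 // GramTuple (βK e.1) id y} = 1 := fun e => by
        rw [Nat.card_eq_one_iff_exists]
        exact ⟨⟨Fin.elim0, fun i => i.elim0⟩, fun t => Subtype.ext (Subsingleton.elim _ _)⟩
      refine ⟨?_, by rw [hw', he₀]; simp⟩
      rw [Finset.sum_congr rfl fun e _ => hone e, Finset.sum_const, Finset.card_univ,
        ← Nat.card_eq_fintype_card, hcardA]
      simp [onCount]
    · have ihe : ∀ e (he : β e e = 1), e ≠ w →
          Nat.card {y : Fin s → K e // GramTuple (βK e) id y} = onCount (Fintype.card F) s ∧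
            β w w = ((s + 1 : ℕ) : F) := fun e he hne => by
        obtain ⟨h1, h2⟩ := ih (K e) (βK e) (fun x y => hsym _ _) (hKnd e he) (hKdim e he) _ (hKw e he)
          (fun _ h => hne (sub_eq_zero.mp (congrArg Subtype.val h)).symm)
        refine ⟨h1, ?_⟩
        have h2' : β (w - e) (w - e) = (s : F) := h2
        simp only [map_sub, LinearMap.sub_apply] at h2'
        rw [hsym e w, (hA e).mp he, he] at h2'
        push_cast
        linear_combination h2'
      have hq : 1 < Fintype.card F ^ s := Nat.one_lt_pow hs Fintype.one_lt_card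
      obtain ⟨e₁, he₁⟩ : ∃ e : {e : W // β e e = 1}, e.1 ≠ w := by
        by_contra hall
        push Not at hall
        haveI : Subsingleton {e : W // β e e = 1} :=
          ⟨fun a b => Subtype.ext ((hall a).trans (hall b).symm)⟩
        have := Finite.card_le_one_iff_subsingleton.mpr ‹Subsingleton {e : W // β e e = 1}›
        omega
      have hww : β w w = ((s + 1 : ℕ) : F) := (ihe e₁.1 e₁.2 he₁).2
      refine ⟨?_, hww⟩
      have hwA : β w w = 1 ↔ Even s := by
        rw [hww, Nat.cast_add, Nat.cast_one, add_eq_right, CharP.cast_eq_zero_iff F 2, even_iff_two_dvd]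
      have hz : ∀ e : {e : W // β e e = 1}, e.1 = w →
          Nat.card {y : Fin s → K e.1 // GramTuple (βK e.1) id y} = 0 := by
        intro e he
        haveI : IsEmpty {y : Fin s → K e.1 // GramTuple (βK e.1) id y} := ⟨fun y => by
          have h1 := y.2 ⟨0, Nat.pos_of_ne_zero hs⟩ ⟨0, Nat.pos_of_ne_zero hs⟩
          rw [hKw e.1 e.2, show (⟨w - e.1, hwe e.1 e.2⟩ : K e.1) = 0 from Subtype.ext (sub_eq_zero.mpr he.symm),
            map_zero, LinearMap.zero_apply] at h1
          simp at h1⟩
        exact Nat.card_of_isEmpty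
      rw [onCount, if_neg hs]
      rw [Finset.sum_congr rfl (g := fun e => if e.1 = w then 0 else onCount (Fintype.card F) s) fun e _ => by
        split_ifs with he
        · exact hz e he
        · exact (ihe e.1 e.2 he).1]
      rw [Finset.sum_ite, Finset.sum_const_zero, zero_add, Finset.sum_const, smul_eq_mul]
      congr 1
      have hsplit := Finset.card_filter_add_card_filter_not (s := (Finset.univ : Finset {e : W // β e e = 1}))
        (fun e => e.1 = w)
      rw [Finset.card_univ, ← Nat.card_eq_fintype_card, hcardA] at hsplit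
      by_cases he : Even s
      · rw [if_pos he]
        have h1 : (Finset.univ.filter fun e : {e : W // β e e = 1} => e.1 = w) = {⟨w, hwA.mpr he⟩} := by
          ext e; simp [Subtype.ext_iff]
        rw [h1, Finset.card_singleton] at hsplit
        omega
      · rw [if_neg he]
        have h1 : (Finset.univ.filter fun e : {e : W // β e e = 1} => e.1 = w) = ∅ := by
          rw [Finset.filter_eq_empty_iff]
          exact fun e _ h => he (hwA.mp (h ▸ e.2))
        rw [h1, Finset.card_empty] at hsplit
        omega

/-- The order formula of `Sp_2k(q)`. -/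
def spOrd (q k : ℕ) : ℕ := q ^ (k ^ 2) * ∏ i : Fin k, (q ^ (2 * ((i : ℕ) + 1)) - 1)

theorem spOrd_succ (q k : ℕ) :
    spOrd q (k + 1) = (q ^ (2 * (k + 1)) - 1) * q ^ (2 * k + 1) * spOrd q k := by
  rw [spOrd, spOrd, Fin.prod_univ_castSucc, show (k + 1) ^ 2 = (2 * k + 1) + k ^ 2 by ring, pow_add]
  simp only [Fin.val_castSucc, Fin.val_last]
  ring

theorem spOrd_pos {q : ℕ} (hq : 1 < q) (k : ℕ) : 0 < spOrd q k :=
  Nat.mul_pos (pow_pos (by omega) _) (Finset.prod_pos fun i _ => Nat.sub_pos_of_lt
    (Nat.one_lt_pow (by omega) hq))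

theorem onCount_odd (q k : ℕ) : onCount q (2 * k + 1) = spOrd q k := by
  induction k with
  | zero => simp [onCount, spOrd]
  | succ k ih =>
    rw [show 2 * (k + 1) + 1 = 2 * k + 1 + 1 + 1 by ring, onCount, onCount, ih, spOrd_succ,
      if_neg (by omega), if_pos (by simp [parity_simps]), if_neg (by omega), if_neg (by simp [parity_simps]),
      show 2 * k + 1 + 1 = 2 * (k + 1) by ring, mul_assoc]

theorem onCount_even (q k : ℕ) : onCount q (2 * k + 2) = q ^ (2 * k + 1) * spOrd q k := by
  rw [onCount, onCount_odd, if_neg (by omega), if_neg (by simp [parity_simps])]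

theorem onCount_pos {q : ℕ} (hq : 1 < q) (s : ℕ) : 0 < onCount q s := by
  induction s with
  | zero => exact one_pos
  | succ s ih =>
    rw [onCount]
    refine Nat.mul_pos ?_ ih
    split_ifs with h1 h2
    · exact one_pos
    · exact Nat.sub_pos_of_lt (Nat.one_lt_pow h1 hq)
    · exact pow_pos (by omega) _

/-- Standard bases of an alternating form. -/
theorem card_gram_rev [Fintype F] [FiniteDimensional F W] (β : LinearMap.BilinForm F W) [CharP F 2]
    (hA : β.IsAlt) (hnd : β.Nondegenerate) {k : ℕ} (hdim : finrank F W = k + k) :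
    Nat.card {y : Fin (k + k) → W // GramTuple β Fin.rev y} = spOrd (Fintype.card F) k := by
  haveI : Finite W := Module.finite_of_finite F
  let η : Fin k ⊕ Fin k ≃ Fin (k + k) := ((Equiv.refl _).sumCongr Fin.revPerm).trans finSumFinEquiv
  have hrev : ∀ a, Fin.rev (η (Sum.inl a)) = η (Sum.inr a) := fun a => by
    simp [η, Fin.ext_iff]
    omega
  have hrev' : ∀ a, Fin.rev (η (Sum.inr a)) = η (Sum.inl a) := fun a => by rw [← hrev, Fin.rev_rev]
  have hsw : ∀ a b, β a b = β b a := fun a b => by rw [← hA.neg_eq, CharTwo.neg_eq]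
  let E : {y : Fin (k + k) → W // GramTuple β Fin.rev y} ≃
      {p : Fin k → W × W // IsSympFrame β p} :=
    { toFun := fun y => ⟨fun a => (y.1 (η (Sum.inl a)), y.1 (η (Sum.inr a))), fun a b => by
        refine ⟨?_, ?_, ?_⟩ <;> simp only [y.2 _ _, hrev, hrev', η.injective.eq_iff]
        · simp
        · simp
        · simp only [Sum.inr.injEq]⟩
      invFun := fun p => ⟨fun i => (η.symm i).elim (fun a => (p.1 a).1) (fun a => (p.1 a).2), fun i l => by
        obtain ⟨i, rfl⟩ := η.surjective i
        obtain ⟨l, rfl⟩ := η.surjective l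
        rcases i with a | a <;> rcases l with b | b <;>
          simp only [Equiv.symm_apply_apply, Sum.elim_inl, Sum.elim_inr, hrev, hrev', η.injective.eq_iff,
            Sum.inl.injEq, Sum.inr.injEq, reduceCtorEq, if_false]
        · exact (p.2 a b).1
        · exact (p.2 a b).2.2
        · rw [hsw, (p.2 b a).2.2]; simp [eq_comm]
        · exact (p.2 a b).2.1⟩
      left_inv := fun y => Subtype.ext (funext fun i => by
        obtain ⟨i, rfl⟩ := η.surjective i
        rcases i with a | a <;> simp)
      right_inv := fun p => Subtype.ext (funext fun a => by simp) }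
  rw [Nat.card_congr E, card_frames hA hnd (m := k) (by
    rw [Module.natCard_eq_pow_finrank (K := F), hdim, Nat.card_eq_fintype_card, two_mul]) k le_rfl]
  clear E hrev hrev' η hdim
  induction k with
  | zero => simp [spOrd]
  | succ k ih =>
    rw [Finset.prod_range_succ', spOrd_succ, Nat.sub_zero, show 2 * (k + 1) - 1 = 2 * k + 1 by omega, ← ih,
      mul_comm]
    congr 1
    exact Finset.prod_congr rfl fun i _ => by rw [Nat.succ_sub_succ]

end Cfsg.Agent.Lib.Classical.CharTwoInvol
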