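import Cfsg.Agent.Lib.Classical.CharTwoInvol.OmegaClasses
import Cfsg.Agent.Lib.Geometry.SymOrth

/-!
The one class of involutions of `Ω⁻_4(2)`, the alternating group of degree five.
-/

set_option autoImplicit false

namespace Cfsg.Agent.Lib.Classical.CharTwoInvol

open Cfsg.Agent.Lib.Geometry (map_commutator_of_equiv)

theorem alt_five_one_class : ∀ g : alternatingGroup (Fin 5), g * g = 1 → g ≠ 1 →
    ∃ c : alternatingGroup (Fin 5), c * ⟨Equiv.swap 0 1 * Equiv.swap 2 3, Equiv.Perm.mem_alternatingGroup.mpr (by decide +kernel)⟩ * c⁻¹ = g := by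
  decide +kernel

/-- Transport of the class count. -/
theorem card_classes_congr {G H : Type*} [Group G] [Group H] (e : G ≃* H) :
    Nat.card {C : ConjClasses G // ∃ g : G, ConjClasses.mk g = C ∧ orderOf g = 2} =
      Nat.card {C : ConjClasses H // ∃ g : H, ConjClasses.mk g = C ∧ orderOf g = 2} := by
  refine Nat.card_congr (Equiv.ofBijective (fun C => ⟨ConjClasses.map e.toMonoidHom C.1, by
    obtain ⟨g, hg, hg2⟩ := C.2
    exact ⟨e g, by rw [← hg]; rfl, by rw [MulEquiv.orderOf_eq, hg2]⟩⟩) ⟨?_, ?_⟩)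
  · rintro ⟨C, g, rfl, _⟩ ⟨D, g', rfl, _⟩ h
    refine Subtype.ext (ConjClasses.mk_eq_mk_iff_isConj.mpr ?_)
    have h' : IsConj (e g) (e g') := ConjClasses.mk_eq_mk_iff_isConj.mp (congrArg Subtype.val h)
    simpa using e.symm.toMonoidHom.map_isConj h'
  · rintro ⟨D, g, rfl, hg⟩
    refine ⟨⟨ConjClasses.mk (e.symm g), e.symm g, rfl, by rw [MulEquiv.orderOf_eq, hg]⟩, Subtype.ext ?_⟩
    show ConjClasses.mk (e (e.symm g)) = _
    rw [MulEquiv.apply_symm_apply]

theorem card_classes_minus_four_two {F : Type*} [Field F] [Fintype F] (hF : Fintype.card F = 2) :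
    Nat.card {C : ConjClasses ↥(Cfsg.Omega F (Cfsg.quadFormMinus 1 F 1 1)) //
      ∃ g : ↥(Cfsg.Omega F (Cfsg.quadFormMinus 1 F 1 1)), ConjClasses.mk g = C ∧ orderOf g = 2} = 1 := by
  obtain ⟨e⟩ := Cfsg.Agent.Lib.Geometry.SymEmbed.orth_minus_four_two (F := F) hF
  have hc : commutator (Equiv.Perm (Fin 5)) = alternatingGroup (Fin 5) :=
    alternatingGroup.commutator_perm_eq (by simp)
  let e' : ↥(Cfsg.Omega F (Cfsg.quadFormMinus 1 F 1 1)) ≃* alternatingGroup (Fin 5) :=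
    (e.subgroupMap (Cfsg.Omega F (Cfsg.quadFormMinus 1 F 1 1))).trans
      (MulEquiv.subgroupCongr ((map_commutator_of_equiv e).trans hc))
  rw [card_classes_congr e', Nat.card_eq_one_iff_exists]
  let g₀ : alternatingGroup (Fin 5) := ⟨Equiv.swap 0 1 * Equiv.swap 2 3, Equiv.Perm.mem_alternatingGroup.mpr (by decide +kernel)⟩
  have h0 : orderOf g₀ = 2 := orderOf_eq_prime (by decide +kernel) (by decide +kernel)
  refine ⟨⟨ConjClasses.mk g₀, g₀, rfl, h0⟩, ?_⟩
  rintro ⟨C, g, rfl, hg⟩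
  obtain ⟨c, hc'⟩ := alt_five_one_class g (by rw [← sq, ← hg, pow_orderOf_eq_one]) (fun h => by
    rw [h, orderOf_one] at hg; omega)
  exact Subtype.ext (ConjClasses.mk_eq_mk_iff_isConj.mpr (isConj_iff.mpr ⟨c, hc'⟩).symm)

end Cfsg.Agent.Lib.Classical.CharTwoInvol
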