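import Cfsg.Agent.Lib.Classical.CharTwoInvol.OrthGroups

/-!
Centralisers of involutions in `Ω⁺_2m(q)`, `q` even.
-/

set_option autoImplicit false

namespace Cfsg.Agent.Lib.Classical.CharTwoInvol

open QuadraticMap (polarBilin)
open Module (finrank)
open scoped Matrix
open Cfsg.Agent.Lib.Geometry (quadIsometries isometryEquiv dickson sympBilin sympBilin_isAlt
  sympBilin_nondegenerate exists_ne_zero_ne_one_or_of_card)
open Cfsg.Agent.Lib.QuadFin (mem_Omega_criterion InKer dickson_eq_codim map_eq_of_stab)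
open Cfsg.Agent.Lib.Classical.AutPOmega (plusR)

attribute [-simp] QuadraticMap.polarBilin_apply_apply

variable {F : Type*} [Field F] [CharP F 2] [Fintype F] {m : ℕ}

theorem plus_nd (m : ℕ) : (polarBilin (plusR m F)).Nondegenerate := by
  rw [polar_plusR]; exact sympBilin_nondegenerate F m

theorem plus_exc (h : Fintype.card F ≠ 2 ∨ m ≠ 2) :
    (∃ a : F, a ≠ 0 ∧ a ≠ 1) ∨ Fintype.card (Fin m ⊕ Fin m) ≠ 4 :=
  exists_ne_zero_ne_one_or_of_card (h.imp_right fun h => by
    rw [Fintype.card_sum, Fintype.card_fin]; omega)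

omit [CharP F 2] [Fintype F] in
theorem commute_iff_intertwine {G : Type*} [Group G] {V : Type*} [AddCommGroup V] [Module F V]
    (ρ : G →* (V ≃ₗ[F] V)) (hinj : Function.Injective ρ) (g x : G) :
    g * x = x * g ↔ ∀ v, ρ g (diffMap ρ x v) = diffMap ρ x (ρ g v) := by
  refine ⟨fun h v => ?_, fun h => hinj (LinearEquiv.ext fun v => ?_)⟩
  · rw [diffMap_apply, diffMap_apply, map_sub, ← hom_mul_apply, ← hom_mul_apply, h]
  · have h' := h v
    rw [diffMap_apply, diffMap_apply, map_sub, sub_left_inj] at h'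
    rw [hom_mul_apply, hom_mul_apply, h']

/-- The centraliser in `Ω` as a subset of the orthogonal centraliser. -/
theorem card_omega_cent (h : Fintype.card F ≠ 2 ∨ m ≠ 2) (x : Cfsg.isometryGroup F (⇑(plusR m F))) :
    Nat.card {g : ↥(Cfsg.Omega F (⇑(plusR m F))) //
        (g : ↥(Cfsg.isometryGroup F (⇑(plusR m F)))) * x = x * (g : ↥(Cfsg.isometryGroup F (⇑(plusR m F))))} =
      Nat.card {e : CentQ (plusR m F) (diffMap (orthLin (plusR m F)) x) //
        dickson (plusR m F) ⟨e.1, e.2.1⟩ = 1} := by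
  have hmem : ∀ g, g ∈ Cfsg.Omega F (⇑(plusR m F)) ↔ dickson (plusR m F) (isometryEquiv (plusR m F) g) = 1 :=
    fun g => (mem_Omega_criterion _ (plus_nd m) (plus_exc h) g).trans
      ⟨fun h => h.1, fun h => ⟨h, fun h2 => absurd CharTwo.two_eq_zero h2⟩⟩
  refine Nat.card_congr
    { toFun := fun g => ⟨⟨orthLin _ g.1.1, orthLin_quad _ _,
          (commute_iff_intertwine _ (orthLin_inj _) _ _).mp g.2⟩, (hmem g.1.1).mp g.1.2⟩
      invFun := fun e => ⟨⟨(isometryEquiv (plusR m F)).symm ⟨e.1.1, e.1.2.1⟩, (hmem _).mpr (by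
          rw [MulEquiv.apply_symm_apply]; exact e.2)⟩, (commute_iff_intertwine _ (orthLin_inj _) _ _).mpr fun v => by
          have he : orthLin (plusR m F) ((isometryEquiv (plusR m F)).symm ⟨e.1.1, e.1.2.1⟩) = e.1.1 := by
            show ((isometryEquiv (plusR m F)) ((isometryEquiv (plusR m F)).symm _)).1 = _
            rw [MulEquiv.apply_symm_apply]
          rw [he]
          exact e.1.2.2 v⟩
      left_inv := fun g => Subtype.ext (Subtype.ext ((isometryEquiv (plusR m F)).symm_apply_apply g.1.1))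
      right_inv := fun e => Subtype.ext (Subtype.ext (by
        show ((isometryEquiv (plusR m F)) ((isometryEquiv (plusR m F)).symm ⟨e.1.1, e.1.2.1⟩)).1 = e.1.1
        rw [MulEquiv.apply_symm_apply])) }

/-- The symplectic element with the same action. -/
theorem exists_sp_of_orth (x : Cfsg.isometryGroup F (⇑(plusR m F))) (hx : x * x = 1) :
    ∃ t : Matrix.symplecticGroup (Fin m) F, t * t = 1 ∧ diffMap (spLin m F) t = diffMap (orthLin (plusR m F)) x ∧
      Nat.card (CentB (polarBilin (plusR m F)) (diffMap (orthLin (plusR m F)) x)) =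
        Nat.card ↥(Subgroup.centralizer ({t} : Set ↥(Matrix.symplecticGroup (Fin m) F))) := by
  obtain ⟨t, ht⟩ := spLin_surj (orthLin (plusR m F) x) fun u v => by
    rw [← polar_plusR]; exact orthLin_polar _ x u v
  have hd : diffMap (spLin m F) t = diffMap (orthLin (plusR m F)) x :=
    LinearMap.ext fun v => by rw [diffMap_apply, diffMap_apply, ht]
  refine ⟨t, spLin_inj m (by rw [map_mul, ht, ← map_mul, hx, map_one, map_one]), hd, ?_⟩
  rw [← hd, polar_plusR]
  symm
  refine Nat.card_congr (Equiv.ofBijective (fun g => ⟨spLin m F g.1, spLin_isometry g.1,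
    (commute_iff_intertwine _ (spLin_inj m) _ _).mp (Subgroup.mem_centralizer_singleton_iff.mp g.2)⟩) ⟨?_, ?_⟩)
  · intro a b hab
    exact Subtype.ext (spLin_inj m (congrArg Subtype.val hab))
  · rintro ⟨e, he, hc⟩
    obtain ⟨g, rfl⟩ := spLin_surj e he
    exact ⟨⟨g, Subgroup.mem_centralizer_singleton_iff.mpr ((commute_iff_intertwine _ (spLin_inj m) _ _).mpr hc)⟩, rfl⟩

theorem card_ker_diff {N : (Fin m ⊕ Fin m → F) →ₗ[F] (Fin m ⊕ Fin m → F)} [Fintype (LinearMap.ker N)] {s : ℕ}
    (hs : finrank F (LinearMap.range N) = s) :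
    Fintype.card (LinearMap.ker N) = Fintype.card F ^ (2 * m - s) := by
  rw [← Nat.card_eq_fintype_card, Module.natCard_eq_pow_finrank (K := F), Nat.card_eq_fintype_card]
  have h := LinearMap.finrank_range_add_finrank_ker N
  rw [finrank_std, hs] at h
  congr 1
  omega

/-- Non-alternating type: `|C_Ω(x)| q^(2m-s) = |C_Sp(x)|`. -/
theorem card_omega_cent_not_alt (h : Fintype.card F ≠ 2 ∨ m ≠ 2) (x : Cfsg.isometryGroup F (⇑(plusR m F)))
    (hx : x * x = 1) {s : ℕ} (hs : finrank F (LinearMap.range (diffMap (orthLin (plusR m F)) x)) = s)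
    (hna : ¬ IsAltType (polarBilin (plusR m F)) (diffMap (orthLin (plusR m F)) x))
    (t : Matrix.symplecticGroup (Fin m) F)
    (htc : Nat.card (CentB (polarBilin (plusR m F)) (diffMap (orthLin (plusR m F)) x)) =
      Nat.card ↥(Subgroup.centralizer ({t} : Set ↥(Matrix.symplecticGroup (Fin m) F)))) :
    Nat.card {g : ↥(Cfsg.Omega F (⇑(plusR m F))) //
        (g : ↥(Cfsg.isometryGroup F (⇑(plusR m F)))) * x = x * (g : ↥(Cfsg.isometryGroup F (⇑(plusR m F))))} *
        Fintype.card F ^ (2 * m - s) =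
      Nat.card ↥(Subgroup.centralizer ({t} : Set ↥(Matrix.symplecticGroup (Fin m) F))) := by
  classical
  set N := diffMap (orthLin (plusR m F)) x with hNdef
  have hN : IsInvolDiff (polarBilin (plusR m F)) N := diffMap_isInvolDiff (orthLin_polar _) hx
  have hQN : ∀ v, plusR m F (v + N v) = plusR m F v := orth_diff _ x
  haveI : Fintype (Fin m ⊕ Fin m → F) := inferInstance
  haveI : Fintype (LinearMap.ker N) := Fintype.ofFinite _
  obtain ⟨v, hv⟩ := exists_quad_diff_eq hQN hna 1
  have h1 := card_dickson_one (plus_nd m) hN (hN.sq v) (by rw [hv]; exact one_ne_zero)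
  rw [card_omega_cent h x, ← htc, ← card_centQ_mul (plus_nd m) hN hQN, ← h1, ← card_ker_diff hs,
    ← two_mul_card_good hN hQN hna]
  ring

/-- Alternating type. -/
theorem card_omega_cent_alt (h : Fintype.card F ≠ 2 ∨ m ≠ 2) (x : Cfsg.isometryGroup F (⇑(plusR m F)))
    (hx : x * x = 1) {s : ℕ} (hs : finrank F (LinearMap.range (diffMap (orthLin (plusR m F)) x)) = s)
    (halt : IsAltType (polarBilin (plusR m F)) (diffMap (orthLin (plusR m F)) x))
    (t : Matrix.symplecticGroup (Fin m) F)
    (htc : Nat.card (CentB (polarBilin (plusR m F)) (diffMap (orthLin (plusR m F)) x)) =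
      Nat.card ↥(Subgroup.centralizer ({t} : Set ↥(Matrix.symplecticGroup (Fin m) F)))) :
    Nat.card {g : ↥(Cfsg.Omega F (⇑(plusR m F))) //
        (g : ↥(Cfsg.isometryGroup F (⇑(plusR m F)))) * x = x * (g : ↥(Cfsg.isometryGroup F (⇑(plusR m F))))} *
        (if s = m then Fintype.card F ^ m else Fintype.card F ^ (2 * m - s) + Fintype.card F ^ m) =
      Nat.card ↥(Subgroup.centralizer ({t} : Set ↥(Matrix.symplecticGroup (Fin m) F))) := by
  classical
  set N := diffMap (orthLin (plusR m F)) x with hNdef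
  have hN : IsInvolDiff (polarBilin (plusR m F)) N := diffMap_isInvolDiff (orthLin_polar _) hx
  have hQN : ∀ v, plusR m F (v + N v) = plusR m F v := orth_diff _ x
  haveI : Fintype (Fin m ⊕ Fin m → F) := inferInstance
  haveI : Fintype (LinearMap.ker N) := Fintype.ofFinite _
  have hsum : ∑ u : LinearMap.ker N, chi (plusR m F u.1) = (Fintype.card F : ℤ) ^ m := by
    rw [← gauss_eq_ker (plus_nd m) hN hQN halt, gauss_plus]
  have hM2 : 2 * Nat.card {u : LinearMap.ker N // chi (plusR m F u.1) = 1} =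
      Fintype.card F ^ (2 * m - s) + Fintype.card F ^ m := by
    have h2 := two_card_chi (plusR m F) (LinearMap.ker N)
    rw [hsum, card_ker_diff hs] at h2
    exact_mod_cast h2
  have hmul := card_centQ_mul (plus_nd m) hN hQN
  rw [card_omega_cent h x, ← htc, ← hmul]
  split_ifs with hsm
  · have heq : LinearMap.range N = LinearMap.ker N := Submodule.eq_of_le_of_finrank_eq
      (by rintro _ ⟨u, rfl⟩; exact LinearMap.mem_ker.mpr (hN.sq u)) (by
        have h' := LinearMap.finrank_range_add_finrank_ker N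
        rw [finrank_std, hs] at h'
        omega)
    have hall : ∀ e : CentQ (plusR m F) N, dickson (plusR m F) ⟨e.1, e.2.1⟩ = 1 := fun e => by
      have hexc : (∃ a : F, a ≠ 0 ∧ a ≠ 1) ∨ finrank F (Fin m ⊕ Fin m → F) ≠ 4 := by
        rw [Module.finrank_fintype_fun_eq_card]; exact plus_exc h
      rw [dickson_eq_codim (plusR m F) (plus_nd m) hexc (finrank_std m) (LinearMap.range N) (hs.trans hsm)
        (fun u hu => by obtain ⟨w, rfl⟩ := hu; rw [quad_diff hQN]; exact halt w)
        ⟨e.1, e.2.1⟩, map_eq_of_stab (plusR m F) ⟨e.1, e.2.1⟩ (fun w hw => by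
          obtain ⟨u, rfl⟩ := hw
          exact ⟨e.1 u, (e.2.2 u).symm⟩), inf_idem, hs, hsm, Nat.sub_self, pow_zero]
    rw [Nat.card_congr (Equiv.subtypeUnivEquiv hall)]
    congr 1
    rw [hsm, show 2 * m - m = m by omega] at hM2
    omega
  · obtain ⟨v, hv⟩ : ∃ v : LinearMap.ker N, plusR m F v.1 ≠ 0 := by
      by_contra hno
      push Not at hno
      rw [Finset.sum_congr rfl fun u _ => show chi (plusR m F u.1) = 1 by rw [hno u, chi_zero], Finset.sum_const,
        Finset.card_univ, card_ker_diff hs] at hsum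
      have hle : 2 * s ≤ 2 * m := by
        have := rank_le (plus_nd m) hN
        rwa [hs, finrank_std] at this
      have hlt : Fintype.card F ^ m < Fintype.card F ^ (2 * m - s) :=
        Nat.pow_lt_pow_right Fintype.one_lt_card (by omega)
      have : Fintype.card F ^ (2 * m - s) = Fintype.card F ^ m := by
        simp only [nsmul_eq_mul, mul_one] at hsum
        exact_mod_cast hsum
      omega
    rw [← card_dickson_one (plus_nd m) hN (LinearMap.mem_ker.mp v.2) hv, ← hM2]
    ring

theorem altType_orth_iff (x : Cfsg.isometryGroup F (⇑(plusR m F))) :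
    IsAltType (polarBilin (plusR m F)) (diffMap (orthLin (plusR m F)) x) ↔
      ∀ v : Fin m ⊕ Fin m → F, plusR m F
        ((((x : Matrix.GeneralLinearGroup (Fin m ⊕ Fin m) F) : Matrix (Fin m ⊕ Fin m) (Fin m ⊕ Fin m) F) - 1) *ᵥ v) = 0 := by
  refine forall_congr' fun v => ?_
  rw [← quad_diff (orth_diff _ x), diffMap_orthLin, Matrix.mulVecLin_apply]

end Cfsg.Agent.Lib.Classical.CharTwoInvol
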