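import Cfsg.Agent.Lib.Classical.CharTwoInvol.OmegaCent

/-!
Involution classes of `Ω^±_2m(q)`, `q` even.
-/

set_option autoImplicit false

namespace Cfsg.Agent.Lib.Classical.CharTwoInvol

open QuadraticMap (polarBilin)
open Module (finrank)
open scoped Matrix
open Cfsg.Agent.Lib.Geometry (quadIsometries isometryEquiv dickson dicksonHom closure_refl_eq_top refl refl_apply
  dicksonHom_refl exists_ne_zero_ne_one_or_of_card sympBilin sympBilin_apply sympForm_eq_sum
  exists_quad_ne_zero_of_nondeg)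
open Cfsg.Agent.Lib.QuadFin (mem_Omega_criterion dickson_eq_codim map_eq_of_stab)
open Cfsg.Agent.Lib.Classical.AutPOmega (plusR plusR_apply minusR minusR_apply)

attribute [-simp] QuadraticMap.polarBilin_apply_apply

/-- Classes of involutions in a subgroup of index two. -/
theorem card_classes_index_two {G : Type*} [Group G] (δ : G →* ℤˣ) (H : Subgroup G) (hH : ∀ g, g ∈ H ↔ δ g = 1)
    {r : G} (hr : δ r = -1) {K : Type*} [Finite K] (P : K → Prop) (rep : K → G)
    (hrep : ∀ k, orderOf (rep k) = 2 ∧ δ (rep k) = 1)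
    (hinj : ∀ k l, IsConj (rep k) (rep l) → k = l)
    (hcov : ∀ g, orderOf g = 2 → δ g = 1 → ∃ k, IsConj (rep k) g)
    (hP : ∀ k, P k → ∀ z, z * rep k = rep k * z → δ z = 1)
    (hnP : ∀ k, ¬ P k → ∃ z, z * rep k = rep k * z ∧ δ z = -1) :
    Nat.card {C : ConjClasses ↥H // ∃ g : ↥H, ConjClasses.mk g = C ∧ orderOf g = 2} =
      Nat.card K + Nat.card {k // P k} := by
  have hmem : ∀ k, rep k ∈ H := fun k => (hH _).mpr (hrep k).2
  have hmem' : ∀ k, r * rep k * r⁻¹ ∈ H := fun k => (hH _).mpr (by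
    rw [map_mul, map_mul, map_inv, (hrep k).2, mul_one, mul_inv_cancel])
  let R : K ⊕ {k // P k} → ↥H :=
    Sum.elim (fun k => ⟨rep k, hmem k⟩) (fun k => ⟨r * rep k.1 * r⁻¹, hmem' k.1⟩)
  have hR : ∀ a, orderOf (R a) = 2 := fun a => by
    rw [← Subgroup.orderOf_coe]
    rcases a with k | k
    · exact (hrep k).1
    · show orderOf (MulAut.conj r (rep k.1)) = 2
      rw [MulEquiv.orderOf_eq]
      exact (hrep k.1).1
  have hG : ∀ {x y : ↥H}, IsConj x y → IsConj (x : G) (y : G) := fun {x y} h => H.subtype.map_isConj h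
  have hrr : ∀ k, IsConj (rep k) (r * rep k * r⁻¹) := fun k => isConj_iff.mpr ⟨r, rfl⟩
  have hbij : Function.Bijective (fun a => (⟨ConjClasses.mk (R a), R a, rfl, hR a⟩ :
      {C : ConjClasses ↥H // ∃ g : ↥H, ConjClasses.mk g = C ∧ orderOf g = 2})) := by
    refine ⟨fun a b hab => ?_, ?_⟩
    · have hc := ConjClasses.mk_eq_mk_iff_isConj.mp (congrArg Subtype.val hab)
      have split : ∀ k, P k → ∀ c : ↥H, (c : G) * rep k * (c : G)⁻¹ ≠ r * rep k * r⁻¹ := by
        intro k hk c h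
        have hz := hP k hk (r⁻¹ * c) (by
          calc r⁻¹ * c * rep k = r⁻¹ * (c * rep k * (c : G)⁻¹) * c := by group
            _ = rep k * (r⁻¹ * c) := by rw [h]; group)
        rw [map_mul, map_inv, hr, (hH _).mp c.2, mul_one] at hz
        exact absurd hz (by decide)
      rcases a with k | k <;> rcases b with l | l
      · exact congrArg Sum.inl (hinj k l (hG hc))
      · obtain rfl := hinj k l.1 ((hG hc).trans (hrr l.1).symm)
        obtain ⟨c, hc⟩ := isConj_iff.mp hc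
        exact absurd (congrArg Subtype.val hc) (split _ l.2 c)
      · obtain rfl := hinj l k.1 ((hG hc).symm.trans (hrr k.1).symm)
        obtain ⟨c, hc⟩ := isConj_iff.mp hc.symm
        exact absurd (congrArg Subtype.val hc) (split _ k.2 c)
      · exact congrArg Sum.inr (Subtype.ext (hinj _ _ ((hrr k.1).trans ((hG hc).trans (hrr l.1).symm))))
    · rintro ⟨C, g, rfl, hg⟩
      obtain ⟨k, hk⟩ := hcov g.1 (by rw [Subgroup.orderOf_coe]; exact hg) ((hH _).mp g.2)
      obtain ⟨c, hc⟩ := isConj_iff.mp hk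
      have toH : ∀ c : G, δ c = 1 → c * rep k * c⁻¹ = g.1 → IsConj (⟨rep k, hmem k⟩ : ↥H) g := fun c h1 h2 =>
        isConj_iff.mpr ⟨⟨c, (hH _).mpr h1⟩, Subtype.ext h2⟩
      rcases Int.units_eq_one_or (δ c) with h1 | h1
      · exact ⟨Sum.inl k, Subtype.ext (ConjClasses.mk_eq_mk_iff_isConj.mpr (toH c h1 hc))⟩
      · by_cases hk' : P k
        · refine ⟨Sum.inr ⟨k, hk'⟩, Subtype.ext (ConjClasses.mk_eq_mk_iff_isConj.mpr (isConj_iff.mpr
            ⟨⟨c * r⁻¹, (hH _).mpr (by rw [map_mul, map_inv, h1, hr]; decide)⟩, Subtype.ext ?_⟩))⟩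
          show c * r⁻¹ * (r * rep k * r⁻¹) * (c * r⁻¹)⁻¹ = g.1
          rw [← hc]; group
        · obtain ⟨z, hz, hz1⟩ := hnP k hk'
          refine ⟨Sum.inl k, Subtype.ext (ConjClasses.mk_eq_mk_iff_isConj.mpr (toH (c * z)
            (by rw [map_mul, h1, hz1]; decide) ?_))⟩
          calc c * z * rep k * (c * z)⁻¹ = c * (z * rep k) * z⁻¹ * c⁻¹ := by group
            _ = g.1 := by rw [hz, ← hc]; group
  rw [← Nat.card_eq_of_bijective _ hbij, Nat.card_sum]

variable {F : Type*} [Field F] [CharP F 2] [Fintype F] {ι : Type} [Fintype ι] [DecidableEq ι]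
variable (Q : QuadraticForm F (ι → F))

omit [CharP F 2] [Fintype F] [Fintype ι] [DecidableEq ι] in
theorem finrank_singular_le {V : Type*} [AddCommGroup V] [Module F V] [FiniteDimensional F V]
    (Q : QuadraticForm F V) (hQ : (polarBilin Q).Nondegenerate) (W : Submodule F V) (h : ∀ v ∈ W, Q v = 0) :
    2 * finrank F W ≤ finrank F V := by
  have hle : W ≤ LinearMap.BilinForm.orthogonal (polarBilin Q) W := fun v hv => by
    rw [LinearMap.BilinForm.mem_orthogonal_iff]
    intro u hu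
    show polarBilin Q u v = 0
    rw [QuadraticMap.polarBilin_apply_apply, QuadraticMap.polar, h _ (W.add_mem hu hv), h _ hu, h _ hv]
    simp
  have h1 := Submodule.finrank_mono hle
  rw [LinearMap.BilinForm.finrank_orthogonal hQ] at h1
  omega

/-- The classes of involutions of `Ω(Q)`. -/
theorem card_classes_omega (hQ : (polarBilin Q).Nondegenerate)
    (hexc : (∃ a : F, a ≠ 0 ∧ a ≠ 1) ∨ Fintype.card ι ≠ 4) {m : ℕ} (hm : 1 ≤ m)
    (hdim : finrank F (ι → F) = 2 * m) (c : ℕ)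
    (hna : ∀ s, 1 ≤ s → s ≤ m → ∃ y : Fin s → ι → F, LinearIndependent F y ∧
      (∀ i l, polarBilin Q (y i) (y l) = 0) ∧ ∀ i, Q (y i) = 1)
    (halt : ∀ k, 1 ≤ k → k ≤ c → ∃ y : Fin (k + k) → ι → F, LinearIndependent F y ∧
      (∀ i l, polarBilin Q (y i) (y l) = 0) ∧ ∀ i, Q (y i) = 0)
    (hbound : ∀ g : Cfsg.isometryGroup F (⇑Q), g * g = 1 → ∀ k,
      finrank F (LinearMap.range (diffMap (orthLin Q) g)) = k + k →
      IsAltType (polarBilin Q) (diffMap (orthLin Q) g) → k ≤ c) :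
    Nat.card {C : ConjClasses ↥(Cfsg.Omega F (⇑Q)) // ∃ g : ↥(Cfsg.Omega F (⇑Q)),
      ConjClasses.mk g = C ∧ orderOf g = 2} = m / 2 + c + Nat.card {i : Fin c // 2 * ((i : ℕ) + 1) = m} := by
  classical
  have hexc' : (∃ a : F, a ≠ 0 ∧ a ≠ 1) ∨ finrank F (ι → F) ≠ 4 := by
    rwa [Module.finrank_fintype_fun_eq_card]
  let δ : Cfsg.isometryGroup F (⇑Q) →* ℤˣ :=
    (dicksonHom Q hQ (closure_refl_eq_top Q hQ hexc')).comp (isometryEquiv Q).toMonoidHom
  have hδ : ∀ g, δ g = dickson Q (isometryEquiv Q g) := fun g => rfl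
  have hmem : ∀ g, g ∈ Cfsg.Omega F (⇑Q) ↔ δ g = 1 := fun g => (mem_Omega_criterion _ hQ hexc g).trans
    ⟨fun h => h.1, fun h => ⟨h, fun h2 => absurd CharTwo.two_eq_zero h2⟩⟩
  have hrank : ∀ g, δ g = (-1) ^ finrank F (LinearMap.range (diffMap (orthLin Q) g)) := fun g => by
    rw [hδ, dickson]
    congr 1
    have : LinearMap.range (diffMap (orthLin Q) g) =
        Cfsg.Agent.Lib.Geometry.movedSpace Q (isometryEquiv Q g) := by
      rw [Cfsg.Agent.Lib.Geometry.movedSpace]
      rw [← LinearMap.range_neg]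
      congr 1
      refine LinearMap.ext fun v => ?_
      rw [LinearMap.neg_apply, diffMap_apply, neg_sub, Cfsg.Agent.Lib.Geometry.oneSub_apply]
      rfl
    rw [this]
  have hnz : ∀ g, finrank F (LinearMap.range (diffMap (orthLin Q) g)) ≠ 0 → g * g = 1 → orderOf g = 2 := by
    intro g hg hgg
    refine orderOf_eq_prime (by rw [sq]; exact hgg) fun h => hg ?_
    rw [h, show diffMap (orthLin Q) (1 : Cfsg.isometryGroup F (⇑Q)) = 0 from
      LinearMap.ext fun v => by rw [diffMap_apply, map_one]; exact sub_self v, LinearMap.range_zero, finrank_bot]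
  choose y₁ hli₁ hy₁ hQy₁ using fun i : Fin (m / 2) => hna (2 * ((i : ℕ) + 1)) (by omega) (by omega)
  choose y₂ hli₂ hy₂ hQy₂ using fun i : Fin c => halt ((i : ℕ) + 1) (Nat.le_add_left 1 _) i.2
  have hrev : ∀ (n : ℕ) (i : Fin (n + n)), Fin.rev i ≠ i := fun n i h => by
    have := congrArg Fin.val h
    rw [Fin.val_rev] at this
    omega
  choose g₁ hg₁ hd₁ using fun i : Fin (m / 2) => exists_orth_invol Q (σ := id) (fun _ => rfl) (y₁ i) (hy₁ i)
    (fun l => by simp [hQy₁])
  choose g₂ hg₂ hd₂ using fun i : Fin c => exists_orth_invol Q Fin.rev_involutive (y₂ i) (hy₂ i)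
    (fun l => by rw [hQy₂, if_neg (hrev _ l)])
  have r₁ : ∀ i, finrank F (LinearMap.range (diffMap (orthLin Q) (g₁ i))) = 2 * ((i : ℕ) + 1) := fun i => by
    rw [hd₁, tensor_rank hQ (fun _ => rfl) (hli₁ i)]
  have r₂ : ∀ i, finrank F (LinearMap.range (diffMap (orthLin Q) (g₂ i))) = ((i : ℕ) + 1) + ((i : ℕ) + 1) :=
    fun i => by rw [hd₂, tensor_rank hQ Fin.rev_involutive (hli₂ i)]
  have t₁ : ∀ i, ¬ IsAltType (polarBilin Q) (diffMap (orthLin Q) (g₁ i)) := fun i => by
    rw [hd₁]; exact tensor_id_not_altType hQ (hli₁ i) (by omega)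
  have t₂ : ∀ i, IsAltType (polarBilin Q) (diffMap (orthLin Q) (g₂ i)) := fun i => by
    rw [hd₂]; exact tensor_rev_isAltType _
  have refl_cent : ∀ g, g * g = 1 → ∀ v, diffMap (orthLin Q) g v = 0 → Q v ≠ 0 →
      ∃ z, z * g = g * z ∧ δ z = -1 := by
    intro g hg v hv hQv
    refine ⟨(isometryEquiv Q).symm (refl Q v), ?_, ?_⟩
    · rw [commute_iff_intertwine (orthLin Q) (orthLin_inj Q)]
      intro w
      have hN := diffMap_isInvolDiff (orthLin_polar Q) hg
      have he : orthLin Q ((isometryEquiv Q).symm (refl Q v)) = (refl Q v : (ι → F) ≃ₗ[F] (ι → F)) := by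
        show ((isometryEquiv Q) ((isometryEquiv Q).symm _)).1 = _
        rw [MulEquiv.apply_symm_apply]
      rw [he, refl_apply, refl_apply, map_sub, map_smul, hv, smul_zero, ← hN.adj, hv, map_zero,
        LinearMap.zero_apply, mul_zero, zero_smul]
    · rw [hδ, MulEquiv.apply_symm_apply]
      exact dicksonHom_refl Q hQ (closure_refl_eq_top Q hQ hexc') hQv
  obtain ⟨v, hv⟩ := exists_quad_ne_zero_of_nondeg Q hQ (by omega : 1 ≤ finrank F (ι → F))
  have hr : δ ((isometryEquiv Q).symm (refl Q v)) = -1 := by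
    rw [hδ, MulEquiv.apply_symm_apply]
    exact dicksonHom_refl Q hQ (closure_refl_eq_top Q hQ hexc') hv
  let rep : Fin (m / 2) ⊕ Fin c → Cfsg.isometryGroup F (⇑Q) := Sum.elim g₁ g₂
  rw [card_classes_index_two δ _ hmem hr
    (Sum.elim (fun _ => False) (fun i : Fin c => 2 * ((i : ℕ) + 1) = m)) rep ?_ ?_ ?_ ?_ ?_]
  · rw [Nat.card_sum, Nat.card_fin, Nat.card_fin]
    congr 1
    exact Nat.card_congr
      { toFun := fun k => match k with
          | ⟨Sum.inr i, h⟩ => ⟨i, h⟩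
          | ⟨Sum.inl _, h⟩ => h.elim
        invFun := fun i => ⟨Sum.inr i.1, i.2⟩
        left_inv := fun k => by rcases k with ⟨i | i, h⟩ <;> first | exact h.elim | rfl
        right_inv := fun i => rfl }
  · rintro (i | i)
    · refine ⟨hnz _ ?_ (hg₁ i), (hrank (g₁ i)).trans ?_⟩
      · show finrank F (LinearMap.range (diffMap (orthLin Q) (g₁ i))) ≠ 0
        rw [r₁ i]; omega
      · rw [r₁ i, pow_mul, neg_one_sq, one_pow]
    · refine ⟨hnz _ ?_ (hg₂ i), (hrank (g₂ i)).trans ?_⟩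
      · show finrank F (LinearMap.range (diffMap (orthLin Q) (g₂ i))) ≠ 0
        rw [r₂ i]; omega
      · rw [r₂ i, ← two_mul, pow_mul, neg_one_sq, one_pow]
  · intro k l hkl
    have hc := conj_invariants (orthLin_polar Q) hkl
    rcases k with i | i <;> rcases l with j | j
    · have h := (r₁ i).symm.trans (hc.1.trans (r₁ j))
      exact congrArg Sum.inl (Fin.ext (by omega))
    · exact absurd (hc.2.mpr (t₂ j)) (t₁ i)
    · exact absurd (hc.2.mp (t₂ i)) (t₁ j)
    · have h := (r₂ i).symm.trans (hc.1.trans (r₂ j))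
      exact congrArg Sum.inr (Fin.ext (by omega))
  · intro g hg hδg
    have hgg : g * g = 1 := by rw [← sq, ← hg, pow_orderOf_eq_one]
    have hN := diffMap_isInvolDiff (orthLin_polar Q) hgg
    set s := finrank F (LinearMap.range (diffMap (orthLin Q) g)) with hs
    have hs0 : s ≠ 0 := fun h0 => by
      rw [hs, Submodule.finrank_eq_zero, LinearMap.range_eq_bot] at h0
      rw [diffMap_eq_zero (orthLin_inj Q) h0, orderOf_one] at hg
      omega
    have hsm : s ≤ m := by
      have := rank_le hQ hN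
      omega
    rw [hrank, neg_one_pow_eq_one_iff_even (by decide)] at hδg
    obtain ⟨k, hk⟩ := hδg
    by_cases hal : IsAltType (polarBilin Q) (diffMap (orthLin Q) g)
    · have hkc := hbound g hgg k hk hal
      refine ⟨Sum.inr ⟨k - 1, by omega⟩, orth_isConj Q hQ _ _ (hg₂ _) hgg ((r₂ _).trans ?_)
        (iff_of_true (t₂ _) hal)⟩
      show k - 1 + 1 + (k - 1 + 1) = _
      omega
    · refine ⟨Sum.inl ⟨k - 1, by omega⟩, orth_isConj Q hQ _ _ (hg₁ _) hgg ((r₁ _).trans ?_)
        (iff_of_false (t₁ _) hal)⟩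
      show 2 * (k - 1 + 1) = _
      omega
  · rintro (i | i) hk z hz
    · exact absurd hk (not_false)
    · have hN := diffMap_isInvolDiff (orthLin_polar Q) (hg₂ i)
      have hz' := (commute_iff_intertwine (orthLin Q) (orthLin_inj Q) z (g₂ i)).mp hz
      have hm' : 2 * ((i : ℕ) + 1) = m := hk
      have hr' := r₂ i
      rw [hδ]
      let U := LinearMap.range (diffMap (orthLin Q) (g₂ i))
      rw [dickson_eq_codim Q hQ hexc' hdim U (show finrank F U = m from hr'.trans (by omega))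
        (fun u hu => by
          obtain ⟨w, rfl⟩ := hu
          rw [quad_diff (orth_diff Q (g₂ i))]
          exact t₂ i w) (isometryEquiv Q z), map_eq_of_stab Q (isometryEquiv Q z) (fun w hw => by
          obtain ⟨u, rfl⟩ := hw
          exact ⟨orthLin Q z u, (hz' u).symm⟩), inf_idem, hr', show m - (((i : ℕ) + 1) + ((i : ℕ) + 1)) = 0 by omega,
        pow_zero]
  · rintro (i | i) hk
    · obtain ⟨w, hw⟩ := exists_quad_diff_eq (orth_diff Q (g₁ i)) (t₁ i) 1
      exact refl_cent _ (hg₁ i) _ ((diffMap_isInvolDiff (orthLin_polar Q) (hg₁ i)).sq w)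
        (by rw [hw]; exact one_ne_zero)
    · have hne : 2 * ((i : ℕ) + 1) ≠ m := hk
      obtain ⟨w, hw, hQw⟩ : ∃ w ∈ LinearMap.ker (diffMap (orthLin Q) (g₂ i)), Q w ≠ 0 := by
        by_contra hno
        push Not at hno
        have h1 := finrank_singular_le Q hQ _ hno
        have h2 := LinearMap.finrank_range_add_finrank_ker (diffMap (orthLin Q) (g₂ i))
        have h3 := rank_le hQ (diffMap_isInvolDiff (orthLin_polar Q) (hg₂ i))
        rw [r₂] at h2 h3
        omega
      exact refl_cent _ (hg₂ i) w (LinearMap.mem_ker.mp hw) hQw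

/-- The classes of involutions of `Ω⁺_2m(q)`. -/
theorem card_classes_omega_plus (m : ℕ) (hm : 1 ≤ m) (h : Fintype.card F ≠ 2 ∨ m ≠ 2) :
    Nat.card {C : ConjClasses ↥(Cfsg.Omega F (⇑(plusR m F))) // ∃ g : ↥(Cfsg.Omega F (⇑(plusR m F))),
      ConjClasses.mk g = C ∧ orderOf g = 2} = 2 * (m / 2) + (if Even m then 1 else 0) := by
  rw [card_classes_omega _ (plus_nd m) (plus_exc h) hm (finrank_std m) (m / 2) (plus_reps_one m) (plus_reps_zero m)
    (fun g hg k hk _ => by
      have := rank_le (plus_nd m) (diffMap_isInvolDiff (orthLin_polar _) hg)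
      rw [hk, finrank_std] at this
      omega), two_mul]
  congr 1
  split_ifs with he
  · rw [Nat.card_eq_one_iff_exists]
    obtain ⟨j, rfl⟩ := he
    exact ⟨⟨⟨j - 1, by omega⟩, by show 2 * (j - 1 + 1) = j + j; omega⟩,
      fun i => Subtype.ext (Fin.ext (by have := i.2; show (i.1 : ℕ) = j - 1; omega))⟩
  · haveI : IsEmpty {i : Fin (m / 2) // 2 * ((i : ℕ) + 1) = m} := ⟨fun i => he ⟨(i.1 : ℕ) + 1, by omega⟩⟩
    exact Nat.card_of_isEmpty

/-- The classes of involutions of `Ω⁻_2(k+1)(q)`, outside `Ω⁻_4(2)`. -/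
theorem card_classes_omega_minus (k : ℕ) (h : Fintype.card F ≠ 2 ∨ k ≠ 1) {a b : F}
    (hab : ∀ z₁ z₂ : F, z₁ ^ 2 + a * z₁ * z₂ + b * z₂ ^ 2 = 0 → z₁ = 0 ∧ z₂ = 0) :
    Nat.card {C : ConjClasses ↥(Cfsg.Omega F (⇑(minusR k a b))) // ∃ g : ↥(Cfsg.Omega F (⇑(minusR k a b))),
      ConjClasses.mk g = C ∧ orderOf g = 2} = (k + 1) / 2 + k / 2 := by
  have hexc : (∃ x : F, x ≠ 0 ∧ x ≠ 1) ∨ Fintype.card ((Fin k ⊕ Fin k) ⊕ Fin 2) ≠ 4 :=
    exists_ne_zero_ne_one_or_of_card (h.imp_right fun h => by simp; omega)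
  rw [card_classes_omega _ (minusR_nondegenerate k hab) hexc (Nat.le_add_left 1 k) (finrank_minus k) (k / 2)
    (minus_reps_one k a b) (minus_reps_zero k a b) (minus_bound k hab)]
  haveI : IsEmpty {i : Fin (k / 2) // 2 * ((i : ℕ) + 1) = k + 1} :=
    ⟨fun i => by have := i.1.2; have := i.2; omega⟩
  rw [Nat.card_of_isEmpty, add_zero]

end Cfsg.Agent.Lib.Classical.CharTwoInvol
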