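import Cfsg.Agent.Lib.Classical.CharTwoInvol.QuadInvol
import Cfsg.Agent.Lib.QuadFin.OmegaCriterion
import Cfsg.Agent.Lib.Classical.AutPOmega.MinusAut
import Cfsg.Agent.Lib.Classical.AutPOmega.PlusMinusGroups

/-!
Involutions of `O^±_2m(q)`, `q` even.
-/

set_option autoImplicit false

namespace Cfsg.Agent.Lib.Classical.CharTwoInvol

open QuadraticMap (polarBilin)
open Module (finrank)
open scoped Matrix
open Cfsg.Agent.Lib.Geometry (quadIsometries quad_polar_map isometryEquiv isometryEquiv_apply dickson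
  sympBilin sympBilin_apply sympBilin_nondegenerate sympForm_eq_sum)
open Cfsg.Agent.Lib.Classical.AutPOmega (plusR plusR_apply coe_plusR minusR minusR_apply coe_minusR)

attribute [-simp] QuadraticMap.polarBilin_apply_apply

variable {F : Type*} [Field F] [CharP F 2] {ι : Type} [Fintype ι] [DecidableEq ι]
variable (Q : QuadraticForm F (ι → F))

/-- The orthogonal group as linear automorphisms. -/
noncomputable def orthLin : Cfsg.isometryGroup F (⇑Q) →* ((ι → F) ≃ₗ[F] (ι → F)) :=
  (quadIsometries Q).subtype.comp (isometryEquiv Q).toMonoidHom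

theorem orthLin_apply (g : Cfsg.isometryGroup F (⇑Q)) (v : ι → F) :
    orthLin Q g v = ((g : Matrix.GeneralLinearGroup ι F) : Matrix ι ι F) *ᵥ v :=
  isometryEquiv_apply Q g v

theorem orthLin_inj : Function.Injective (orthLin Q) :=
  Subtype.val_injective.comp (isometryEquiv Q).injective

theorem orthLin_quad (g : Cfsg.isometryGroup F (⇑Q)) (v : ι → F) : Q (orthLin Q g v) = Q v :=
  (isometryEquiv Q g).2 v

theorem orthLin_surj (e : (ι → F) ≃ₗ[F] (ι → F)) (he : ∀ v, Q (e v) = Q v) : ∃ g, orthLin Q g = e :=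
  ⟨(isometryEquiv Q).symm ⟨e, he⟩, by
    show ((isometryEquiv Q) ((isometryEquiv Q).symm ⟨e, he⟩)).1 = e
    rw [MulEquiv.apply_symm_apply]⟩

theorem orthLin_polar (g : Cfsg.isometryGroup F (⇑Q)) (u v : ι → F) :
    polarBilin Q (orthLin Q g u) (orthLin Q g v) = polarBilin Q u v :=
  quad_polar_map Q (T := (orthLin Q g).toLinearMap) (orthLin_quad Q g) u v

theorem orth_diff (g : Cfsg.isometryGroup F (⇑Q)) (v : ι → F) : Q (v + diffMap (orthLin Q) g v) = Q v := by
  rw [diffMap_apply, add_sub_cancel, orthLin_quad]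

theorem diffMap_orthLin (g : Cfsg.isometryGroup F (⇑Q)) :
    diffMap (orthLin Q) g = (((g : Matrix.GeneralLinearGroup ι F) : Matrix ι ι F) - 1).mulVecLin :=
  LinearMap.ext fun v => by
    rw [diffMap_apply, orthLin_apply, Matrix.mulVecLin_apply, Matrix.sub_mulVec, Matrix.one_mulVec]

theorem rank_eq_orth (g : Cfsg.isometryGroup F (⇑Q)) :
    finrank F (LinearMap.range (diffMap (orthLin Q) g)) =
      (((g : Matrix.GeneralLinearGroup ι F) : Matrix ι ι F) - 1).rank := by
  rw [diffMap_orthLin]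
  rfl

theorem exists_orth_invol {s : ℕ} {σ : Fin s → Fin s} (hσ : Function.Involutive σ) (y : Fin s → ι → F)
    (hy : ∀ i l, polarBilin Q (y i) (y l) = 0) (hQy : ∀ i, Q (y i) = if σ i = i then 1 else 0) :
    ∃ g : Cfsg.isometryGroup F (⇑Q), g * g = 1 ∧ diffMap (orthLin Q) g = tensor (polarBilin Q) σ y := by
  have hN := tensor_isInvolDiff (polar_isAlt Q) hσ hy
  refine exists_invol_of (orthLin Q) (orthLin_inj Q) _ hN.sq (orthLin_surj Q _ fun v => ?_)
  rw [involOfTensor_apply]
  have hsum : ∀ S : Finset (Fin s), Q (∑ i ∈ S, polarBilin Q (y (σ i)) v • y i) =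
      ∑ i ∈ S, polarBilin Q (y (σ i)) v * polarBilin Q (y (σ i)) v * Q (y i) := by
    intro S
    induction S using Finset.induction_on with
    | empty => simp
    | insert i S hi ih =>
      rw [Finset.sum_insert hi, Finset.sum_insert hi, quad_add', ih, QuadraticMap.map_smul, smul_eq_mul]
      simp [map_sum, hy]
  have hcross : polarBilin Q v (tensor (polarBilin Q) σ y v) =
      ∑ i, polarBilin Q (y (σ i)) v * polarBilin Q (y i) v := by
    rw [tensor_apply]
    simp [map_sum, apply_comm (polar_isAlt Q) v]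
  rw [quad_add', hcross, tensor_apply, hsum, add_assoc, ← Finset.sum_add_distrib, add_eq_left]
  refine Finset.sum_involution (fun i _ => σ i) (fun i _ => ?_) (fun i _ h hi => h ?_)
    (fun _ _ => Finset.mem_univ _) (fun i _ => hσ i)
  · rw [hσ i, hQy i, hQy (σ i), hσ i]
    by_cases h : σ i = i
    · rw [if_pos h, if_pos h.symm, h]
      linear_combination (polarBilin Q (y i) v * polarBilin Q (y i) v) * CharTwo.two_eq_zero (R := F) +
        (polarBilin Q (y i) v * polarBilin Q (y i) v) * CharTwo.two_eq_zero (R := F)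
    · rw [if_neg h, if_neg fun e => h e.symm]
      linear_combination (polarBilin Q (y (σ i)) v * polarBilin Q (y i) v) * CharTwo.two_eq_zero (R := F)
  · rw [hQy, if_pos hi, hi]
    linear_combination (polarBilin Q (y i) v * polarBilin Q (y i) v) * CharTwo.two_eq_zero (R := F)

variable [Fintype F]

theorem orth_isConj (hQ : (polarBilin Q).Nondegenerate) (g h : Cfsg.isometryGroup F (⇑Q)) (hg : g * g = 1)
    (hh : h * h = 1)
    (hr : finrank F (LinearMap.range (diffMap (orthLin Q) g)) = finrank F (LinearMap.range (diffMap (orthLin Q) h)))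
    (ht : IsAltType (polarBilin Q) (diffMap (orthLin Q) g) ↔ IsAltType (polarBilin Q) (diffMap (orthLin Q) h)) :
    IsConj g h := by
  obtain ⟨e, he, hc⟩ := exists_orth_conj (Q := Q) hQ (diffMap_isInvolDiff (orthLin_polar Q) hg)
    (diffMap_isInvolDiff (orthLin_polar Q) hh) (orth_diff Q g) (orth_diff Q h) hr ht
  obtain ⟨c, rfl⟩ := orthLin_surj Q e he
  exact isConj_of_intertwine (orthLin_inj Q) hc

theorem card_classes_orth (hQ : (polarBilin Q).Nondegenerate) {m : ℕ} (hdim : finrank F (ι → F) = 2 * m)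
    (c : ℕ)
    (hna : ∀ s, 1 ≤ s → s ≤ m → ∃ y : Fin s → ι → F, LinearIndependent F y ∧
      (∀ i l, polarBilin Q (y i) (y l) = 0) ∧ ∀ i, Q (y i) = 1)
    (halt : ∀ k, 1 ≤ k → k ≤ c → ∃ y : Fin (k + k) → ι → F, LinearIndependent F y ∧
      (∀ i l, polarBilin Q (y i) (y l) = 0) ∧ ∀ i, Q (y i) = 0)
    (hbound : ∀ g : Cfsg.isometryGroup F (⇑Q), g * g = 1 → ∀ k,
      finrank F (LinearMap.range (diffMap (orthLin Q) g)) = k + k →
      IsAltType (polarBilin Q) (diffMap (orthLin Q) g) → k ≤ c) :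
    Nat.card {C : ConjClasses ↥(Cfsg.isometryGroup F (⇑Q)) //
      ∃ g : ↥(Cfsg.isometryGroup F (⇑Q)), ConjClasses.mk g = C ∧ orderOf g = 2} = m + c := by
  refine card_involClasses (polar_isAlt Q) hQ hdim (orthLin Q) (orthLin_inj Q) (orthLin_polar Q)
    (orth_isConj Q hQ) c (fun s h1 h2 => ?_) (fun k h1 h2 => ?_) hbound
  · obtain ⟨y, hli, hy, hQy⟩ := hna s h1 h2
    obtain ⟨g, hg, hd⟩ := exists_orth_invol Q (σ := id) (fun _ => rfl) y hy fun i => by simp [hQy]
    refine ⟨g, hg, ?_, ?_⟩
    · rw [hd, tensor_rank hQ (fun _ => rfl) hli]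
    · rw [hd]
      exact tensor_id_not_altType hQ hli (by omega)
  · obtain ⟨y, hli, hy, hQy⟩ := halt k h1 h2
    obtain ⟨g, hg, hd⟩ := exists_orth_invol Q Fin.rev_involutive y hy fun i => by
      rw [hQy, if_neg]
      intro h
      have := congrArg Fin.val h
      rw [Fin.val_rev] at this
      omega
    refine ⟨g, hg, ?_, ?_⟩
    · rw [hd, tensor_rank hQ Fin.rev_involutive hli]
    · rw [hd]
      exact tensor_rev_isAltType y

theorem gauss_lagrangian [Fintype (ι → F)] (hQ : (polarBilin Q).Nondegenerate) {N : (ι → F) →ₗ[F] (ι → F)}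
    (hN : IsInvolDiff (polarBilin Q) N) (hQN : ∀ v, Q (v + N v) = Q v) (halt : IsAltType (polarBilin Q) N)
    (hs : 2 * finrank F (LinearMap.range N) = finrank F (ι → F)) :
    gauss Q = (Fintype.card F : ℤ) ^ finrank F (LinearMap.range N) := by
  classical
  have h := LinearMap.finrank_range_add_finrank_ker N
  have heq : LinearMap.range N = LinearMap.ker N := Submodule.eq_of_le_of_finrank_eq
    (by rintro _ ⟨u, rfl⟩; exact LinearMap.mem_ker.mpr (hN.sq u)) (by omega)
  haveI : Fintype (LinearMap.ker N) := Fintype.ofFinite _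
  rw [gauss_eq_ker hQ hN hQN halt, Finset.sum_congr rfl fun u _ => show chi (Q u.1) = 1 by
    obtain ⟨w, hw⟩ := (show u.1 ∈ LinearMap.range N by rw [heq]; exact u.2)
    rw [← hw, quad_diff hQN, halt w, chi_zero]]
  rw [Finset.sum_const, Finset.card_univ, ← Nat.card_eq_fintype_card, Module.natCard_eq_pow_finrank (K := F),
    ← heq, Nat.card_eq_fintype_card]
  simp

/-! ### The two standard forms -/

section Standard

omit [Fintype F]

theorem polar_plusR (m : ℕ) : polarBilin (plusR m F) = sympBilin m F := by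
  refine LinearMap.ext fun u => LinearMap.ext fun v => ?_
  rw [QuadraticMap.polarBilin_apply_apply, QuadraticMap.polar, sympBilin_apply, sympForm_eq_sum, plusR_apply,
    plusR_apply, plusR_apply, ← Finset.sum_sub_distrib, ← Finset.sum_sub_distrib]
  refine Finset.sum_congr rfl fun i _ => ?_
  simp only [Pi.add_apply, CharTwo.sub_eq_add]
  linear_combination (u (Sum.inl i) * u (Sum.inr i) + v (Sum.inl i) * v (Sum.inr i)) * CharTwo.two_eq_zero (R := F)

theorem polar_minusR (k : ℕ) (a b : F) (u v : (Fin k ⊕ Fin k) ⊕ Fin 2 → F) :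
    polarBilin (minusR k a b) u v =
      (∑ i : Fin k, (u (.inl (.inl i)) * v (.inl (.inr i)) + u (.inl (.inr i)) * v (.inl (.inl i)))) +
        a * (u (.inr 0) * v (.inr 1) + u (.inr 1) * v (.inr 0)) := by
  rw [QuadraticMap.polarBilin_apply_apply, QuadraticMap.polar, minusR_apply, minusR_apply, minusR_apply]
  rw [show (∑ i : Fin k, (u + v) (.inl (.inl i)) * (u + v) (.inl (.inr i))) =
      (∑ i : Fin k, u (.inl (.inl i)) * u (.inl (.inr i))) + (∑ i : Fin k, v (.inl (.inl i)) * v (.inl (.inr i))) +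
      ∑ i : Fin k, (u (.inl (.inl i)) * v (.inl (.inr i)) + u (.inl (.inr i)) * v (.inl (.inl i))) by
    rw [← Finset.sum_add_distrib, ← Finset.sum_add_distrib]
    exact Finset.sum_congr rfl fun i _ => by simp only [Pi.add_apply]; ring]
  simp only [Pi.add_apply]
  linear_combination (u (.inr 0) * v (.inr 0) + b * (u (.inr 1) * v (.inr 1))) * CharTwo.two_eq_zero (R := F)

theorem coeff_ne_zero [Finite F] {a b : F}
    (hab : ∀ z₁ z₂ : F, z₁ ^ 2 + a * z₁ * z₂ + b * z₂ ^ 2 = 0 → z₁ = 0 ∧ z₂ = 0) : a ≠ 0 := by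
  intro ha
  obtain ⟨r, hr⟩ := FiniteField.isSquare_of_char_two (ringChar.eq F 2) b
  have := (hab r 1 (by rw [ha, hr]; linear_combination (r * r) * CharTwo.two_eq_zero (R := F))).2
  exact one_ne_zero this

theorem minusR_nondegenerate [Finite F] (k : ℕ) {a b : F}
    (hab : ∀ z₁ z₂ : F, z₁ ^ 2 + a * z₁ * z₂ + b * z₂ ^ 2 = 0 → z₁ = 0 ∧ z₂ = 0) :
    (polarBilin (minusR k a b)).Nondegenerate := by
  have ha := coeff_ne_zero hab
  have key : ∀ u, (∀ v, polarBilin (minusR k a b) u v = 0) → u = 0 := fun u h => by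
    funext j
    rcases j with (i | i) | j
    · have h' := h (Pi.single (Sum.inl (Sum.inr i)) 1)
      rw [polar_minusR] at h'
      simpa [Pi.single_apply] using h'
    · have h' := h (Pi.single (Sum.inl (Sum.inl i)) 1)
      rw [polar_minusR] at h'
      simpa [Pi.single_apply] using h'
    · fin_cases j
      · have h' := h (Pi.single (Sum.inr 1) 1)
        rw [polar_minusR] at h'
        simpa [Pi.single_apply, ha] using h'
      · have h' := h (Pi.single (Sum.inr 0) 1)
        rw [polar_minusR] at h'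
        simpa [Pi.single_apply, ha] using h'
  exact ⟨key, fun v h => key v fun u => by rw [apply_comm (polar_isAlt _)]; exact h u⟩

theorem finrank_minus (k : ℕ) : finrank F ((Fin k ⊕ Fin k) ⊕ Fin 2 → F) = 2 * (k + 1) := by
  rw [Module.finrank_fintype_fun_eq_card, Fintype.card_sum, Fintype.card_sum, Fintype.card_fin, Fintype.card_fin]
  ring

end Standard

theorem gauss_plus (m : ℕ) [Fintype (Fin m ⊕ Fin m → F)] : gauss (plusR m F) = (Fintype.card F : ℤ) ^ m := by
  classical
  let U : Submodule F (Fin m ⊕ Fin m → F) := LinearMap.ker (LinearMap.funLeft F F (Sum.inr : Fin m → Fin m ⊕ Fin m))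
  have hU : ∀ u : Fin m ⊕ Fin m → F, u ∈ U ↔ ∀ i, u (Sum.inr i) = 0 := fun u =>
    ⟨fun h i => congrFun (LinearMap.mem_ker.mp h) i, fun h => LinearMap.mem_ker.mpr (funext h)⟩
  haveI : Fintype U := Fintype.ofFinite _
  have hQU : ∀ u ∈ U, plusR m F u = 0 := fun u hu => by
    rw [plusR_apply]
    exact Finset.sum_eq_zero fun i _ => by rw [(hU u).mp hu i, mul_zero]
  rw [gauss_eq_sum_perp (plusR m F) U hQU U fun v => by
    rw [hU, polar_plusR]
    constructor
    · intro hv u hu
      rw [sympBilin_apply, sympForm_eq_sum]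
      exact Finset.sum_eq_zero fun i _ => by rw [hv i, (hU u).mp hu i]; ring
    · intro h i
      have h' := h (Pi.single (Sum.inl i) 1) ((hU _).mpr fun l => by simp)
      rw [sympBilin_apply, sympForm_eq_sum] at h'
      simpa [Pi.single_apply] using h']
  rw [Finset.sum_congr rfl fun u _ => show chi (plusR m F u.1) = 1 by rw [hQU u.1 u.2, chi_zero]]
  let e : U ≃ (Fin m → F) :=
    { toFun := fun u i => u.1 (Sum.inl i)
      invFun := fun f => ⟨Sum.elim f 0, (hU _).mpr fun i => rfl⟩
      left_inv := fun u => Subtype.ext (funext fun j => by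
        rcases j with i | i
        · rfl
        · exact ((hU u.1).mp u.2 i).symm)
      right_inv := fun f => rfl }
  rw [Finset.sum_const, Finset.card_univ, Fintype.card_congr e]
  simp

theorem gauss_minus_neg (k : ℕ) {a b : F}
    (hab : ∀ z₁ z₂ : F, z₁ ^ 2 + a * z₁ * z₂ + b * z₂ ^ 2 = 0 → z₁ = 0 ∧ z₂ = 0)
    [Fintype ((Fin k ⊕ Fin k) ⊕ Fin 2 → F)] : gauss (minusR k a b) < 0 := by
  classical
  let Qb : QuadraticForm F (Fin 2 → F) :=
    (Cfsg.Agent.Lib.Classical.binaryForm a b).comp (LinearEquiv.finTwoArrow F F).toLinearMap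
  have hQb : ∀ z, Qb z = z 0 ^ 2 + a * z 0 * z 1 + b * z 1 ^ 2 := fun z => by
    show Cfsg.Agent.Lib.Classical.binaryForm a b (z 0, z 1) = _
    rw [Cfsg.Agent.Lib.Classical.binaryForm_apply]
  have hb : gauss Qb = - (Fintype.card F : ℤ) := by
    have h := gauss_anisotropic Qb fun z hz => by
      rw [hQb] at hz
      obtain ⟨h0, h1⟩ := hab _ _ hz
      funext j
      fin_cases j
      · exact h0
      · exact h1
    rw [Fintype.card_fun, Fintype.card_fin] at h
    have hq : (1 : ℤ) < Fintype.card F := by exact_mod_cast Fintype.one_lt_card (α := F)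
    have h2 : ((Fintype.card F : ℤ) - 1) * (gauss Qb + Fintype.card F) = 0 := by
      push_cast at h
      linear_combination h
    rcases mul_eq_zero.mp h2 with h3 | h3 <;> omega
  let U : Submodule F ((Fin k ⊕ Fin k) ⊕ Fin 2 → F) :=
    { carrier := {v | (∀ i, v (.inl (.inr i)) = 0) ∧ ∀ j, v (.inr j) = 0}
      zero_mem' := ⟨fun _ => rfl, fun _ => rfl⟩
      add_mem' := fun {x y} hx hy => ⟨fun i => by simp [hx.1 i, hy.1 i], fun j => by simp [hx.2 j, hy.2 j]⟩
      smul_mem' := fun c x hx => ⟨fun i => by simp [hx.1 i], fun j => by simp [hx.2 j]⟩ }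
  let P : Submodule F ((Fin k ⊕ Fin k) ⊕ Fin 2 → F) :=
    { carrier := {v | ∀ i, v (.inl (.inr i)) = 0}
      zero_mem' := fun _ => rfl
      add_mem' := fun {x y} hx hy i => by simp [hx i, hy i]
      smul_mem' := fun c x hx i => by simp [hx i] }
  haveI : Fintype U := Fintype.ofFinite _
  haveI : Fintype P := Fintype.ofFinite _
  rw [gauss_eq_sum_perp (minusR k a b) U (fun u hu => by
    rw [minusR_apply]
    simp [hu.1, hu.2]) P fun v => by
    constructor
    · intro hv u hu
      rw [polar_minusR]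
      simp [hu.1, hu.2, show ∀ i, v (.inl (.inr i)) = 0 from hv]
    · intro h i
      have h' := h (Pi.single (Sum.inl (Sum.inl i)) 1) ⟨fun l => by simp, fun j => by simp⟩
      rw [polar_minusR] at h'
      simpa [Pi.single_apply] using h']
  let e : P ≃ (Fin k → F) × (Fin 2 → F) :=
    { toFun := fun v => (fun i => v.1 (.inl (.inl i)), fun j => v.1 (.inr j))
      invFun := fun p => ⟨Sum.elim (Sum.elim p.1 0) p.2, fun i => rfl⟩
      left_inv := fun v => Subtype.ext (funext fun j => by
        rcases j with (i | i) | j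
        · rfl
        · exact (v.2 i).symm
        · rfl)
      right_inv := fun p => rfl }
  rw [Fintype.sum_equiv e _ (fun p => chi (Qb p.2)) fun v => by
    rw [minusR_apply, hQb, Finset.sum_eq_zero (fun i _ => by rw [v.2 i, mul_zero]), zero_add]
    rfl]
  rw [Fintype.sum_prod_type]
  show ∑ _x : Fin k → F, ∑ y, chi (Qb y) < 0
  rw [Finset.sum_const, Finset.card_univ, Fintype.card_fun, Fintype.card_fin,
    show ∑ y, chi (Qb y) = gauss Qb from rfl, hb, nsmul_eq_mul]
  have hq : 0 < Fintype.card F := Fintype.card_pos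
  have : (0 : ℤ) < (Fintype.card F ^ k : ℕ) * (Fintype.card F : ℤ) := by positivity
  linarith

omit [Fintype F] in
theorem plus_reps_one (m : ℕ) : ∀ s, 1 ≤ s → s ≤ m → ∃ y : Fin s → Fin m ⊕ Fin m → F, LinearIndependent F y ∧
    (∀ i l, polarBilin (plusR m F) (y i) (y l) = 0) ∧ ∀ i, plusR m F (y i) = 1 := by
  intro s _ h2
  refine ⟨fun i => Pi.single (Sum.inl (Fin.castLE h2 i)) 1 + Pi.single (Sum.inr (Fin.castLE h2 i)) 1,
    ?_, fun i l => ?_, fun i => ?_⟩
  · rw [Fintype.linearIndependent_iff]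
    intro c hc l
    have := congrFun hc (Sum.inl (Fin.castLE h2 l))
    simpa [Finset.sum_apply, Pi.single_apply] using this
  · rw [polar_plusR, sympBilin_apply, sympForm_eq_sum]
    by_cases h : i = l
    · subst h
      simp [Pi.single_apply, CharTwo.add_self_eq_zero]
    · simp [Pi.single_apply, h, Ne.symm h]
  · rw [plusR_apply]
    simp [Pi.single_apply]

omit [Fintype F] in
theorem plus_reps_zero (m : ℕ) : ∀ k, 1 ≤ k → k ≤ m / 2 → ∃ y : Fin (k + k) → Fin m ⊕ Fin m → F,
    LinearIndependent F y ∧ (∀ i l, polarBilin (plusR m F) (y i) (y l) = 0) ∧ ∀ i, plusR m F (y i) = 0 := by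
  intro k _ h2
  have hk' : k + k ≤ m := by omega
  refine ⟨fun i => Pi.single (Sum.inl (Fin.castLE hk' i)) 1, ?_, fun i l => ?_, fun i => ?_⟩
  · exact (Pi.linearIndependent_single_one (Fin m ⊕ Fin m) F).comp _
      (Sum.inl_injective.comp (Fin.castLE_injective hk'))
  · rw [polar_plusR, sympBilin_apply, sympForm_eq_sum]
    simp
  · rw [plusR_apply]
    simp

omit [Fintype F] in
theorem minus_reps_one (k : ℕ) (a b : F) : ∀ s, 1 ≤ s → s ≤ k + 1 →
    ∃ y : Fin s → (Fin k ⊕ Fin k) ⊕ Fin 2 → F, LinearIndependent F y ∧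
    (∀ i l, polarBilin (minusR k a b) (y i) (y l) = 0) ∧ ∀ i, minusR k a b (y i) = 1 := by
  intro s _ h2
  classical
  let y₀ : Fin (k + 1) → (Fin k ⊕ Fin k) ⊕ Fin 2 → F := Fin.lastCases (Pi.single (Sum.inr 0) 1)
    fun i => Pi.single (Sum.inl (Sum.inl i)) 1 + Pi.single (Sum.inl (Sum.inr i)) 1
  have h0 : LinearIndependent F y₀ := by
    rw [Fintype.linearIndependent_iff]
    intro c hc l
    refine Fin.lastCases ?_ (fun l => ?_) l
    · have := congrFun hc (Sum.inr 0)
      simpa [Finset.sum_apply, Fin.sum_univ_castSucc, y₀, Pi.single_apply] using this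
    · have := congrFun hc (Sum.inl (Sum.inl l))
      simpa [Finset.sum_apply, Fin.sum_univ_castSucc, y₀, Pi.single_apply] using this
  refine ⟨fun i => y₀ (Fin.castLE h2 i), h0.comp _ (Fin.castLE_injective h2), fun i l => ?_, fun i => ?_⟩
  · suffices h : ∀ i l, polarBilin (minusR k a b) (y₀ i) (y₀ l) = 0 from h _ _
    intro i l
    refine Fin.lastCases ?_ (fun i => ?_) i <;> refine Fin.lastCases ?_ (fun l => ?_) l <;>
      rw [polar_minusR] <;> simp only [y₀, Fin.lastCases_last, Fin.lastCases_castSucc]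
    · simp
    · simp
    · simp
    · by_cases h : i = l
      · subst h
        simp [Pi.single_apply, CharTwo.add_self_eq_zero]
      · simp [Pi.single_apply, CharTwo.add_self_eq_zero]
  · suffices h : ∀ i, minusR k a b (y₀ i) = 1 from h _
    intro i
    refine Fin.lastCases ?_ (fun i => ?_) i <;> rw [minusR_apply] <;>
      simp [y₀, Pi.single_apply]

omit [Fintype F] in
theorem minus_reps_zero (k : ℕ) (a b : F) : ∀ j, 1 ≤ j → j ≤ k / 2 →
    ∃ y : Fin (j + j) → (Fin k ⊕ Fin k) ⊕ Fin 2 → F, LinearIndependent F y ∧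
    (∀ i l, polarBilin (minusR k a b) (y i) (y l) = 0) ∧ ∀ i, minusR k a b (y i) = 0 := by
  intro j _ h2
  have hj' : j + j ≤ k := by omega
  refine ⟨fun i => Pi.single (Sum.inl (Sum.inl (Fin.castLE hj' i))) 1, ?_, fun i l => ?_, fun i => ?_⟩
  · exact (Pi.linearIndependent_single_one ((Fin k ⊕ Fin k) ⊕ Fin 2) F).comp _
      (Sum.inl_injective.comp (Sum.inl_injective.comp (Fin.castLE_injective hj')))
  · rw [polar_minusR]
    simp
  · rw [minusR_apply]
    simp

theorem minus_bound (k : ℕ) {a b : F}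
    (hab : ∀ z₁ z₂ : F, z₁ ^ 2 + a * z₁ * z₂ + b * z₂ ^ 2 = 0 → z₁ = 0 ∧ z₂ = 0) :
    ∀ g : Cfsg.isometryGroup F (⇑(minusR k a b)), g * g = 1 → ∀ j,
      finrank F (LinearMap.range (diffMap (orthLin (minusR k a b)) g)) = j + j →
      IsAltType (polarBilin (minusR k a b)) (diffMap (orthLin (minusR k a b)) g) → j ≤ k / 2 := by
  intro g hg j hj halt
  have hQ := minusR_nondegenerate k hab
  have hN := diffMap_isInvolDiff (orthLin_polar (minusR k a b)) hg
  have hr := rank_le hQ hN
  rw [hj, finrank_minus] at hr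
  by_contra hlt
  have heq : j + j = k + 1 := by omega
  haveI : Fintype ((Fin k ⊕ Fin k) ⊕ Fin 2 → F) := Fintype.ofFinite _
  have hg' := gauss_lagrangian _ hQ hN (orth_diff _ g) halt (by rw [hj, finrank_minus, heq])
  have hneg := gauss_minus_neg k hab
  have : (0 : ℤ) ≤ (Fintype.card F : ℤ) ^ finrank F (LinearMap.range (diffMap (orthLin (minusR k a b)) g)) := by
    positivity
  omega

/-- The classes of involutions of `O⁺_2m(q)`. -/
theorem card_classes_plus (m : ℕ) :
    Nat.card {C : ConjClasses ↥(Cfsg.isometryGroup F (⇑(plusR m F))) //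
      ∃ g : ↥(Cfsg.isometryGroup F (⇑(plusR m F))), ConjClasses.mk g = C ∧ orderOf g = 2} = m + m / 2 := by
  have hQ : (polarBilin (plusR m F)).Nondegenerate := by rw [polar_plusR]; exact sympBilin_nondegenerate F m
  refine card_classes_orth _ hQ (finrank_std m) (m / 2) (plus_reps_one m) (plus_reps_zero m) fun g hg k hk _ => ?_
  have := rank_le hQ (diffMap_isInvolDiff (orthLin_polar _) hg)
  rw [hk, finrank_std] at this
  omega

/-- The classes of involutions of `O⁻_2(k+1)(q)`. -/
theorem card_classes_minus (k : ℕ) {a b : F}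
    (hab : ∀ z₁ z₂ : F, z₁ ^ 2 + a * z₁ * z₂ + b * z₂ ^ 2 = 0 → z₁ = 0 ∧ z₂ = 0) :
    Nat.card {C : ConjClasses ↥(Cfsg.isometryGroup F (⇑(minusR k a b))) //
      ∃ g : ↥(Cfsg.isometryGroup F (⇑(minusR k a b))), ConjClasses.mk g = C ∧ orderOf g = 2} = k + 1 + k / 2 :=
  card_classes_orth _ (minusR_nondegenerate k hab) (finrank_minus k) (k / 2) (minus_reps_one k a b)
    (minus_reps_zero k a b) (minus_bound k hab)

end Cfsg.Agent.Lib.Classical.CharTwoInvol
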