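import Cfsg.Agent.Lib.Classical.CharTwoInvol.SpCentral
import Cfsg.Agent.Lib.Classical.CharTwoInvol.Gauss
import Cfsg.Agent.Lib.Geometry.Spinor

/-!
Involutions of orthogonal groups in characteristic two, reduced to the symplectic group of the polar form.
-/

set_option autoImplicit false

namespace Cfsg.Agent.Lib.Classical.CharTwoInvol

open QuadraticMap (polarBilin)
open Module (finrank)
open Cfsg.Agent.Lib.Geometry (quadIsometries quad_polar_map quad_smul refl refl_apply dickson dickson_refl_mul)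

attribute [-simp] QuadraticMap.polarBilin_apply_apply

variable {F : Type*} [Field F] [CharP F 2] {V : Type*} [AddCommGroup V] [Module F V]

/-- The symplectic centraliser of `1 + N`. -/
abbrev CentB (B : LinearMap.BilinForm F V) (N : V →ₗ[F] V) :=
  {e : V ≃ₗ[F] V // (∀ x y, B (e x) (e y) = B x y) ∧ ∀ v, e (N v) = N (e v)}

/-- The orthogonal centraliser of `1 + N`. -/
abbrev CentQ (Q : QuadraticForm F V) (N : V →ₗ[F] V) :=
  {e : V ≃ₗ[F] V // (∀ v, Q (e v) = Q v) ∧ ∀ v, e (N v) = N (e v)}

variable {Q : QuadraticForm F V} {N : V →ₗ[F] V}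

theorem quad_diff (hQN : ∀ v, Q (v + N v) = Q v) (v : V) : Q (N v) = polarBilin Q (N v) v := by
  have h := hQN v
  rw [quad_add', apply_comm (polar_isAlt Q) v (N v)] at h
  refine CharTwo.add_eq_zero.mp ?_
  linear_combination h

theorem exists_quad_diff_eq [Fintype F] (hQN : ∀ v, Q (v + N v) = Q v) (hna : ¬ IsAltType (polarBilin Q) N) (d : F) :
    ∃ v, Q (N v) = d := by
  obtain ⟨v, hv⟩ := not_forall.mp hna
  obtain ⟨r, hr⟩ := FiniteField.isSquare_of_char_two (ringChar.eq F 2) (d / polarBilin Q (N v) v)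
  refine ⟨r • v, ?_⟩
  rw [map_smul, quad_smul, quad_diff hQN, ← hr, div_mul_cancel₀ _ hv]

variable [FiniteDimensional F V] [Fintype F]

theorem exists_shift_vector (hQ : (polarBilin Q).Nondegenerate) (g : V ≃ₗ[F] V)
    (hg : ∀ x y, polarBilin Q (g x) (g y) = polarBilin Q x y) :
    ∃ u, ∀ v, Q (g v) = Q v + polarBilin Q u v * polarBilin Q u v := by
  let e := frobeniusEquiv F 2
  let lam : V →ₗ[F] F :=
    { toFun := fun x => e.symm (Q (g x) + Q x)
      map_add' := fun x y => by
        rw [← map_add e.symm]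
        congr 1
        rw [map_add g, quad_add', quad_add', hg]
        linear_combination (polarBilin Q x y) * CharTwo.two_eq_zero (R := F)
      map_smul' := fun c x => by
        apply e.injective
        simp only [map_smul, quad_smul, smul_eq_mul, RingHom.id_apply, map_mul, e.apply_symm_apply]
        simp only [e, frobeniusEquiv_apply, frobenius_def]
        ring }
  obtain ⟨u, hu⟩ : ∃ u, polarBilin Q u = lam := by
    have hinj : Function.Injective (polarBilin Q) := (injective_iff_map_eq_zero _).mpr fun x hx =>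
      hQ.1 x fun y => LinearMap.congr_fun hx y
    exact (LinearMap.injective_iff_surjective_of_finrank_eq_finrank
      (Subspace.dual_finrank_eq (K := F) (V := V)).symm).mp hinj lam
  refine ⟨u, fun v => ?_⟩
  rw [hu]
  have h : e (e.symm (Q (g v) + Q v)) = e.symm (Q (g v) + Q v) * e.symm (Q (g v) + Q v) := by
    simp only [e, frobeniusEquiv_apply, frobenius_def]; ring
  rw [e.apply_symm_apply] at h
  show Q (g v) = Q v + e.symm (Q (g v) + Q v) * e.symm (Q (g v) + Q v)
  rw [← h]
  linear_combination (- Q v) * CharTwo.two_eq_zero (R := F)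

omit [FiniteDimensional F V] [Fintype F] in
theorem shift_vector_unique (hQ : (polarBilin Q).Nondegenerate) {u u' : V}
    (h : ∀ v, polarBilin Q u v * polarBilin Q u v = polarBilin Q u' v * polarBilin Q u' v) : u = u' := by
  refine sub_eq_zero.mp (hQ.1 _ fun v => ?_)
  rw [map_sub, LinearMap.sub_apply]
  rcases mul_self_eq_mul_self_iff.mp (h v) with h' | h'
  · rw [h', sub_self]
  · rw [h', CharTwo.neg_eq, sub_self]

omit [FiniteDimensional F V] [Fintype F] in
theorem shift_vector_mem_ker (hQ : (polarBilin Q).Nondegenerate) (hN : IsInvolDiff (polarBilin Q) N)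
    (hQN : ∀ v, Q (v + N v) = Q v) {g : V ≃ₗ[F] V} (hgN : ∀ v, Q (g (v + N v)) = Q (g v)) {u : V}
    (hu : ∀ v, Q (g v) = Q v + polarBilin Q u v * polarBilin Q u v) : N u = 0 := by
  refine hQ.1 _ fun v => ?_
  rw [hN.adj]
  have h := hgN v
  rw [hu, hu, hQN, map_add, add_right_inj] at h
  rcases mul_self_eq_mul_self_iff.mp h with h' | h'
  · exact add_eq_left.mp h'
  · rw [CharTwo.neg_eq] at h'
    exact add_eq_left.mp h'

omit [FiniteDimensional F V] [Fintype F] in
theorem exists_shift (hN : IsInvolDiff (polarBilin Q) N) {u : V} (hu : N u = 0) (hchi : ∃ c, Q u = c * c + c) :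
    ∃ T : V ≃ₗ[F] V, (∀ x y, polarBilin Q (T x) (T y) = polarBilin Q x y) ∧ (∀ v, T (N v) = N (T v)) ∧
      ∀ v, Q (T v) = Q v + polarBilin Q u v * polarBilin Q u v := by
  obtain ⟨c, hc⟩ := hchi
  obtain ⟨a, ha⟩ : ∃ a, a + a * a * Q u = 1 := by
    by_cases h0 : Q u = 0
    · exact ⟨1, by rw [h0]; simp⟩
    · refine ⟨c / Q u, ?_⟩
      field_simp
      linear_combination -hc
  have huu : polarBilin Q u u = 0 := polar_isAlt Q u
  let M : V →ₗ[F] V := (polarBilin Q u).smulRight (a • u)
  have hM : ∀ v, M v = (a * polarBilin Q u v) • u := fun v => by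
    show polarBilin Q u v • (a • u) = _
    rw [smul_smul, mul_comm]
  have hM2 : ∀ v, M (M v) = 0 := fun v => by
    rw [hM, hM, map_smul, huu, smul_zero, mul_zero, zero_smul]
  refine ⟨involOfTensor M hM2, fun x y => ?_, fun v => ?_, fun v => ?_⟩
  · rw [involOfTensor_apply, involOfTensor_apply, hM, hM]
    simp only [map_add, map_smul, LinearMap.add_apply, LinearMap.smul_apply, smul_eq_mul, huu,
      apply_comm (polar_isAlt Q) x u]
    linear_combination (a * polarBilin Q u x * polarBilin Q u y) * CharTwo.two_eq_zero (R := F)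
  · rw [involOfTensor_apply, involOfTensor_apply, hM, hM, map_add, map_smul, hu, smul_zero, add_zero,
      ← hN.adj, hu, map_zero, LinearMap.zero_apply, mul_zero, zero_smul, add_zero]
  · rw [involOfTensor_apply, hM, quad_add', quad_smul, map_smul, smul_eq_mul,
      apply_comm (polar_isAlt Q) v u]
    linear_combination (polarBilin Q u v * polarBilin Q u v) * ha

/-- Orthogonal conjugacy from symplectic conjugacy. -/
theorem exists_orth_conj [Fintype V] (hQ : (polarBilin Q).Nondegenerate) {N' : V →ₗ[F] V}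
    (hN : IsInvolDiff (polarBilin Q) N) (hN' : IsInvolDiff (polarBilin Q) N') (hQN : ∀ v, Q (v + N v) = Q v)
    (hQN' : ∀ v, Q (v + N' v) = Q v)
    (hr : finrank F (LinearMap.range N) = finrank F (LinearMap.range N'))
    (ht : IsAltType (polarBilin Q) N ↔ IsAltType (polarBilin Q) N') :
    ∃ h : V ≃ₗ[F] V, (∀ v, Q (h v) = Q v) ∧ ∀ v, h (N v) = N' (h v) := by
  obtain ⟨g, hg, hc⟩ := exists_conj (polar_isAlt Q) hQ hN hN' hr ht
  obtain ⟨u, hu⟩ := exists_shift_vector hQ g hg
  have huN := shift_vector_mem_ker hQ hN hQN (fun v => by rw [map_add, hc, hQN']) hu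
  obtain ⟨T, -, hTN, hTQ⟩ := exists_shift hN huN ((chi_eq_one_iff _).mp (chi_shift Q hQ g u hu))
  refine ⟨T.symm.trans g, fun v => ?_, fun v => ?_⟩
  · rw [LinearEquiv.trans_apply, hu, ← hTQ, LinearEquiv.apply_symm_apply]
  · rw [LinearEquiv.trans_apply, LinearEquiv.trans_apply, ← hc]
    congr 1
    apply T.injective
    rw [LinearEquiv.apply_symm_apply, hTN, LinearEquiv.apply_symm_apply]

/-- The orthogonal centraliser has index `#{u ∈ ker N | Q u = c² + c}` in the symplectic one. -/
theorem card_centQ_mul [Fintype V] (hQ : (polarBilin Q).Nondegenerate) (hN : IsInvolDiff (polarBilin Q) N)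
    (hQN : ∀ v, Q (v + N v) = Q v) :
    Nat.card (CentQ Q N) * Nat.card {u : LinearMap.ker N // chi (Q u.1) = 1} =
      Nat.card (CentB (polarBilin Q) N) := by
  choose T hTB hTN hTQ using fun u : {u : LinearMap.ker N // chi (Q u.1) = 1} =>
    exists_shift hN (LinearMap.mem_ker.mp u.1.2) ((chi_eq_one_iff _).mp u.2)
  have hpolar : ∀ h : CentQ Q N, ∀ x y, polarBilin Q (h.1 x) (h.1 y) = polarBilin Q x y := fun h =>
    quad_polar_map Q (T := h.1.toLinearMap) h.2.1
  choose U hU using fun g : CentB (polarBilin Q) N => exists_shift_vector hQ g.1 g.2.1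
  have hUker : ∀ g, U g ∈ LinearMap.ker N ∧ chi (Q (U g)) = 1 := fun g =>
    ⟨LinearMap.mem_ker.mpr (shift_vector_mem_ker hQ hN hQN (fun v => by
        have h := hQN (g.1 v)
        rwa [← g.2.2, ← map_add] at h) (hU g)),
      chi_shift Q hQ g.1 (U g) (hU g)⟩
  let uu : CentB (polarBilin Q) N → {u : LinearMap.ker N // chi (Q u.1) = 1} := fun g =>
    ⟨⟨U g, (hUker g).1⟩, (hUker g).2⟩
  have hcomm : ∀ u, ∀ v, (T u).symm (N v) = N ((T u).symm v) := fun u v => (T u).injective (by
    rw [LinearEquiv.apply_symm_apply, hTN, LinearEquiv.apply_symm_apply])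
  let down : CentB (polarBilin Q) N → CentQ Q N := fun g =>
    ⟨(T (uu g)).symm.trans g.1, fun v => by
      rw [LinearEquiv.trans_apply, hU g]
      have := hTQ (uu g) ((T (uu g)).symm v)
      rw [LinearEquiv.apply_symm_apply] at this
      exact this.symm, fun v => by
      rw [LinearEquiv.trans_apply, LinearEquiv.trans_apply, hcomm, g.2.2]⟩
  let up : CentQ Q N × {u : LinearMap.ker N // chi (Q u.1) = 1} → CentB (polarBilin Q) N := fun p =>
    ⟨(T p.2).trans p.1.1, fun x y => by rw [LinearEquiv.trans_apply, LinearEquiv.trans_apply, hpolar, hTB],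
      fun v => by rw [LinearEquiv.trans_apply, LinearEquiv.trans_apply, hTN, p.1.2.2]⟩
  have huu : ∀ p, uu (up p) = p.2 := fun p => by
    refine Subtype.ext (Subtype.ext (shift_vector_unique hQ fun v => ?_))
    have h1 := hU (up p) v
    have h2 : Q ((up p).1 v) = Q (T p.2 v) := by
      show Q ((T p.2).trans p.1.1 v) = _
      rw [LinearEquiv.trans_apply, p.1.2.1]
    rw [h2, hTQ] at h1
    exact (add_left_cancel h1).symm
  rw [← Nat.card_prod]
  refine (Nat.card_congr
    { toFun := fun g => (down g, uu g)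
      invFun := up
      left_inv := fun g => Subtype.ext (LinearEquiv.ext fun v => by
        show ((T (uu g)).trans ((T (uu g)).symm.trans g.1)) v = g.1 v
        rw [LinearEquiv.trans_apply, LinearEquiv.trans_apply, LinearEquiv.symm_apply_apply])
      right_inv := fun p => Prod.ext (Subtype.ext (LinearEquiv.ext fun v => by
        show ((T (uu (up p))).symm.trans ((T p.2).trans p.1.1)) v = p.1.1 v
        rw [huu, LinearEquiv.trans_apply, LinearEquiv.trans_apply, LinearEquiv.apply_symm_apply])) (huu p) }).symm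

omit [FiniteDimensional F V] in
theorem two_mul_card_good [Fintype V] [Fintype (LinearMap.ker N)] (hN : IsInvolDiff (polarBilin Q) N)
    (hQN : ∀ v, Q (v + N v) = Q v) (hna : ¬ IsAltType (polarBilin Q) N) :
    2 * Nat.card {u : LinearMap.ker N // chi (Q u.1) = 1} = Fintype.card (LinearMap.ker N) := by
  obtain ⟨x, hx⟩ := exists_chi_neg (F := F)
  obtain ⟨v, hv⟩ := exists_quad_diff_eq hQN hna x
  let u₀ : LinearMap.ker N := ⟨N v, LinearMap.mem_ker.mpr (hN.sq v)⟩
  have hsum : ∑ u : LinearMap.ker N, chi (Q u.1) = 0 := by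
    have h1 : ∑ u : LinearMap.ker N, chi (Q u.1) = ∑ u : LinearMap.ker N, chi (Q (u + u₀).1) :=
      (Fintype.sum_equiv (Equiv.addRight u₀) _ _ fun u => rfl).symm
    have h2 : ∀ u : LinearMap.ker N, chi (Q (u + u₀).1) = - chi (Q u.1) := fun u => by
      show chi (Q (u.1 + N v)) = _
      rw [quad_add', ← hN.adj, LinearMap.mem_ker.mp u.2, map_zero, LinearMap.zero_apply, add_zero,
        chi_add, hv, hx, mul_neg_one]
    rw [Finset.sum_congr rfl fun u _ => h2 u, Finset.sum_neg_distrib] at h1
    omega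
  have h := two_card_chi Q (LinearMap.ker N)
  rw [hsum, add_zero] at h
  exact_mod_cast h

theorem gauss_eq_ker [Fintype V] [Fintype (LinearMap.ker N)] (hQ : (polarBilin Q).Nondegenerate)
    (hN : IsInvolDiff (polarBilin Q) N) (hQN : ∀ v, Q (v + N v) = Q v) (halt : IsAltType (polarBilin Q) N) :
    gauss Q = ∑ u : LinearMap.ker N, chi (Q u.1) := by
  classical
  haveI : Fintype (LinearMap.range N) := Fintype.ofFinite _
  refine gauss_eq_sum_perp Q (LinearMap.range N) (fun u hu => ?_) _ fun v => ?_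
  · obtain ⟨w, rfl⟩ := hu
    rw [quad_diff hQN]
    exact halt w
  · rw [LinearMap.mem_ker]
    constructor
    · rintro hv u ⟨w, rfl⟩
      rw [← hN.adj, hv, map_zero, LinearMap.zero_apply]
    · intro h
      refine hQ.1 _ fun w => ?_
      rw [hN.adj]
      exact h _ ⟨w, rfl⟩

/-- Half of the centraliser has trivial Dickson invariant. -/
theorem card_dickson_one (hQ : (polarBilin Q).Nondegenerate) (hN : IsInvolDiff (polarBilin Q) N)
    [Finite V] {v₀ : V} (h₀ : N v₀ = 0) (hQ₀ : Q v₀ ≠ 0) :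
    2 * Nat.card {e : CentQ Q N // dickson Q ⟨e.1, e.2.1⟩ = 1} = Nat.card (CentQ Q N) := by
  classical
  let r : quadIsometries Q := refl Q v₀
  have hrN : ∀ v, (r : V ≃ₗ[F] V) (N v) = N ((r : V ≃ₗ[F] V) v) := fun v => by
    rw [refl_apply, refl_apply, map_sub, map_smul, h₀, smul_zero, ← hN.adj, h₀, map_zero, LinearMap.zero_apply,
      mul_zero, zero_smul]
  let Φ : CentQ Q N → CentQ Q N := fun e => ⟨(r : V ≃ₗ[F] V) * e.1, fun v => by
      show Q ((r : V ≃ₗ[F] V) (e.1 v)) = Q v
      rw [r.2, e.2.1], fun v => by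
      show (r : V ≃ₗ[F] V) (e.1 (N v)) = N ((r : V ≃ₗ[F] V) (e.1 v))
      rw [e.2.2, hrN]⟩
  have hΦd : ∀ e : CentQ Q N, dickson Q ⟨(Φ e).1, (Φ e).2.1⟩ = - dickson Q ⟨e.1, e.2.1⟩ := fun e =>
    dickson_refl_mul Q hQ ⟨e.1, e.2.1⟩ hQ₀
  haveI : Finite (V ≃ₗ[F] V) := Finite.of_injective (fun e => (e : V → V)) DFunLike.coe_injective
  haveI : Finite (CentQ Q N) := Subtype.finite
  have hΦ : Function.Bijective Φ := by
    refine Finite.injective_iff_bijective.mp fun a b hab => Subtype.ext ?_
    exact mul_left_cancel (congrArg Subtype.val hab)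
  have hsplit := Nat.card_congr (Equiv.sumCompl fun e : CentQ Q N => dickson Q ⟨e.1, e.2.1⟩ = 1)
  rw [Nat.card_sum] at hsplit
  rw [two_mul, ← hsplit]
  congr 1
  refine Nat.card_congr ((Equiv.ofBijective Φ hΦ).subtypeEquiv fun e => ?_)
  rw [Equiv.ofBijective_apply, hΦd]
  rcases Int.units_eq_one_or (dickson Q ⟨e.1, e.2.1⟩) with h | h <;> rw [h] <;> decide

end Cfsg.Agent.Lib.Classical.CharTwoInvol
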