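import Cfsg.Agent.Lib.Classical.CharTwoInvol.Classes
import Cfsg.Agent.Lib.Geometry.IsotropicTuples

/-!
Involutions of `Sp_2m(q)`, `q` even: classes and centraliser orders.
-/

set_option autoImplicit false

namespace Cfsg.Agent.Lib.Classical.CharTwoInvol

open Module (finrank)
open scoped Matrix
open Cfsg.Agent.Lib.Geometry (sympBilin sympBilin_apply sympBilin_isAlt sympBilin_nondegenerate
  mem_symplecticGroup_iff_form IsoTuple card_isoTuple card_stab_mul)
open Cfsg.Agent.Lib.Classical (card_sp)

variable {F : Type*} [Field F]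

/-- `Sp_2m(F)` as linear automorphisms. -/
noncomputable def spLin (m : ℕ) (F : Type*) [Field F] :
    Matrix.symplecticGroup (Fin m) F →* ((Fin m ⊕ Fin m → F) ≃ₗ[F] (Fin m ⊕ Fin m → F)) where
  toFun g := LinearEquiv.ofLinearMap g.1.mulVecLin (g⁻¹).1.mulVecLin
    (LinearMap.ext fun v => by
      show g.1 *ᵥ ((g⁻¹).1 *ᵥ v) = v
      rw [Matrix.mulVec_mulVec, ← Submonoid.coe_mul, mul_inv_cancel, Submonoid.coe_one, Matrix.one_mulVec])
    (LinearMap.ext fun v => by
      show (g⁻¹).1 *ᵥ (g.1 *ᵥ v) = v
      rw [Matrix.mulVec_mulVec, ← Submonoid.coe_mul, inv_mul_cancel, Submonoid.coe_one, Matrix.one_mulVec])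
  map_one' := LinearEquiv.ext fun v => Matrix.one_mulVec v
  map_mul' g h := LinearEquiv.ext fun v => (Matrix.mulVec_mulVec v g.1 h.1).symm

theorem spLin_apply {m : ℕ} (g : Matrix.symplecticGroup (Fin m) F) (v : Fin m ⊕ Fin m → F) :
    spLin m F g v = g.1 *ᵥ v := rfl

theorem spLin_inj (m : ℕ) : Function.Injective (spLin m F) := fun g h e =>
  Subtype.ext (Matrix.ext_of_mulVec_single fun i => LinearEquiv.congr_fun e _)

theorem spLin_isometry {m : ℕ} (g : Matrix.symplecticGroup (Fin m) F) (u v : Fin m ⊕ Fin m → F) :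
    sympBilin m F (spLin m F g u) (spLin m F g v) = sympBilin m F u v := by
  rw [sympBilin_apply, sympBilin_apply, spLin_apply, spLin_apply]
  exact mem_symplecticGroup_iff_form.mp g.2 u v

theorem spLin_surj {m : ℕ} (e : (Fin m ⊕ Fin m → F) ≃ₗ[F] (Fin m ⊕ Fin m → F))
    (he : ∀ u v, sympBilin m F (e u) (e v) = sympBilin m F u v) : ∃ g, spLin m F g = e := by
  refine ⟨⟨LinearMap.toMatrix' e.toLinearMap, mem_symplecticGroup_iff_form.mpr fun u v => ?_⟩,
    LinearEquiv.ext fun v => ?_⟩
  · rw [← sympBilin_apply, ← sympBilin_apply, ← Matrix.toLin'_apply, ← Matrix.toLin'_apply,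
      Matrix.toLin'_toMatrix']
    exact he u v
  · rw [spLin_apply, ← Matrix.toLin'_apply, Matrix.toLin'_toMatrix']
    rfl

theorem diffMap_spLin {m : ℕ} (g : Matrix.symplecticGroup (Fin m) F) :
    diffMap (spLin m F) g = (g.1 - 1).mulVecLin :=
  LinearMap.ext fun v => by
    rw [diffMap_apply, spLin_apply, Matrix.mulVecLin_apply, Matrix.sub_mulVec, Matrix.one_mulVec]

theorem rank_eq_diffMap {m : ℕ} (g : Matrix.symplecticGroup (Fin m) F) :
    finrank F (LinearMap.range (diffMap (spLin m F) g)) = (g.1 - 1).rank := by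
  rw [diffMap_spLin]
  rfl

variable [CharP F 2]

theorem altType_iff {m : ℕ} (g : Matrix.symplecticGroup (Fin m) F) :
    IsAltType (sympBilin m F) (diffMap (spLin m F) g) ↔
      ∀ v : Fin m ⊕ Fin m → F, Cfsg.sympForm m F v (g.1 *ᵥ v) = 0 := by
  refine forall_congr' fun v => ?_
  rw [diffMap_apply, spLin_apply, map_sub, LinearMap.sub_apply, sympBilin_isAlt v, sub_zero,
    apply_comm sympBilin_isAlt, sympBilin_apply]

/-- An involution `1 + N` as a linear automorphism. -/
noncomputable def involOfTensor {V : Type*} [AddCommGroup V] [Module F V] (N : V →ₗ[F] V) (hN : ∀ v, N (N v) = 0) :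
    V ≃ₗ[F] V :=
  LinearEquiv.ofLinearMap (LinearMap.id + N) (LinearMap.id + N)
    (LinearMap.ext fun v => by
      simp only [LinearMap.comp_apply, LinearMap.add_apply, LinearMap.id_apply, map_add, hN, add_zero]
      rw [add_assoc, two_smul_zero F, add_zero])
    (LinearMap.ext fun v => by
      simp only [LinearMap.comp_apply, LinearMap.add_apply, LinearMap.id_apply, map_add, hN, add_zero]
      rw [add_assoc, two_smul_zero F, add_zero])

theorem involOfTensor_apply {V : Type*} [AddCommGroup V] [Module F V] (N : V →ₗ[F] V) (hN : ∀ v, N (N v) = 0)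
    (v : V) : involOfTensor N hN v = v + N v := rfl

/-- The element of a group with a faithful action attached to `1 + N`. -/
theorem exists_invol_of {V : Type*} [AddCommGroup V] [Module F V] {G : Type*} [Group G]
    (ρ : G →* (V ≃ₗ[F] V)) (hinj : Function.Injective ρ) (N : V →ₗ[F] V) (hN : ∀ v, N (N v) = 0)
    (hs : ∃ g, ρ g = involOfTensor N hN) : ∃ g : G, g * g = 1 ∧ diffMap ρ g = N := by
  obtain ⟨g, hg⟩ := hs
  refine ⟨g, hinj ?_, LinearMap.ext fun v => ?_⟩
  · rw [map_one, map_mul, hg]
    refine LinearEquiv.ext fun v => ?_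
    show involOfTensor N hN (involOfTensor N hN v) = v
    rw [involOfTensor_apply, involOfTensor_apply, map_add, hN, add_zero, add_assoc, two_smul_zero F, add_zero]
  · rw [diffMap_apply, hg, involOfTensor_apply, add_sub_cancel_left]

theorem exists_sp_invol {m s : ℕ} (hs : s ≤ m) (σ : Fin s → Fin s) (hσ : Function.Involutive σ) :
    ∃ (g : Matrix.symplecticGroup (Fin m) F) (y : Fin s → Fin m ⊕ Fin m → F), g * g = 1 ∧
      LinearIndependent F y ∧ diffMap (spLin m F) g = tensor (sympBilin m F) σ y := by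
  let y : Fin s → Fin m ⊕ Fin m → F := fun i => Pi.single (Sum.inl (Fin.castLE hs i)) 1
  have hy : ∀ i l, sympBilin m F (y i) (y l) = 0 := fun i l => by
    rw [sympBilin_apply, Cfsg.Agent.Lib.Geometry.sympForm_eq_sum]
    simp [y]
  have hli : LinearIndependent F y :=
    (Pi.linearIndependent_single_one (Fin m ⊕ Fin m) F).comp _ (Sum.inl_injective.comp (Fin.castLE_injective hs))
  have hN := tensor_isInvolDiff (B := sympBilin m F) sympBilin_isAlt hσ hy
  obtain ⟨g, hg, hd⟩ := exists_invol_of (spLin m F) (spLin_inj m) _ hN.sq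
    (spLin_surj _ fun u v => by
      rw [involOfTensor_apply, involOfTensor_apply]
      simp only [map_add, LinearMap.add_apply, hN.adj u, hN.sq, map_zero, add_zero]
      rw [add_assoc, two_smul_zero F, add_zero])
  exact ⟨g, y, hg, hli, hd⟩

theorem finrank_std (m : ℕ) : finrank F (Fin m ⊕ Fin m → F) = 2 * m := by
  rw [Module.finrank_fintype_fun_eq_card, Fintype.card_sum, Fintype.card_fin, two_mul]

variable [Fintype F]

theorem sp_isConj {m : ℕ} (g h : Matrix.symplecticGroup (Fin m) F) (hg : g * g = 1) (hh : h * h = 1)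
    (hr : finrank F (LinearMap.range (diffMap (spLin m F) g)) = finrank F (LinearMap.range (diffMap (spLin m F) h)))
    (ht : IsAltType (sympBilin m F) (diffMap (spLin m F) g) ↔ IsAltType (sympBilin m F) (diffMap (spLin m F) h)) :
    IsConj g h := by
  obtain ⟨e, he, hc⟩ := exists_conj sympBilin_isAlt (sympBilin_nondegenerate F m)
    (diffMap_isInvolDiff (ρ := spLin m F) spLin_isometry hg) (diffMap_isInvolDiff (ρ := spLin m F) spLin_isometry hh)
    hr ht
  obtain ⟨c, rfl⟩ := spLin_surj e he
  exact isConj_of_intertwine (spLin_inj m) hc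

theorem card_classes_sp (m : ℕ) :
    Nat.card {C : ConjClasses ↥(Matrix.symplecticGroup (Fin m) F) //
      ∃ g : Matrix.symplecticGroup (Fin m) F, ConjClasses.mk g = C ∧ orderOf g = 2} = m + m / 2 := by
  refine card_involClasses sympBilin_isAlt (sympBilin_nondegenerate F m) (finrank_std m) (spLin m F) (spLin_inj m)
    spLin_isometry sp_isConj (m / 2) (fun s h1 h2 => ?_) (fun k h1 h2 => ?_) fun g hg k hk _ => ?_
  · obtain ⟨g, y, hg, hy, hd⟩ := exists_sp_invol h2 (F := F) id fun _ => rfl
    refine ⟨g, hg, ?_, ?_⟩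
    · rw [hd, tensor_rank (sympBilin_nondegenerate F m) (fun _ => rfl) hy]
    · rw [hd]
      exact tensor_id_not_altType (sympBilin_nondegenerate F m) hy (by omega)
  · obtain ⟨g, y, hg, hy, hd⟩ := exists_sp_invol (m := m) (s := k + k) (F := F) (by omega) Fin.rev Fin.rev_involutive
    refine ⟨g, hg, ?_, ?_⟩
    · rw [hd, tensor_rank (sympBilin_nondegenerate F m) Fin.rev_involutive hy]
    · rw [hd]
      exact tensor_rev_isAltType y
  · have := rank_le (sympBilin_nondegenerate F m) (diffMap_isInvolDiff (ρ := spLin m F) spLin_isometry hg)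
    rw [hk, finrank_std] at this
    omega

/-! ### Centralisers -/

/-- Triangular numbers. -/
def tri : ℕ → ℕ
  | 0 => 0
  | s + 1 => tri s + (s + 1)

theorem two_tri (s : ℕ) : 2 * tri s = s * s + s := by
  induction s with
  | zero => rfl
  | succ s ih => rw [tri, mul_add, ih]; ring

theorem iso_count_mul {q : ℕ} (hq : 1 ≤ q) : ∀ s r : ℕ,
    (∏ i ∈ Finset.range s, (q ^ (2 * (s + r) - i) - q ^ i)) * (q ^ (2 * r * s + tri s) * spOrd q r) =
      spOrd q (s + r) := by
  intro s
  induction s with
  | zero => intro r; simp [tri]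
  | succ s ih =>
    intro r
    have h1 : q ^ (2 * (s + 1 + r) - s) - q ^ s = q ^ s * (q ^ (2 * (r + 1)) - 1) := by
      rw [Nat.mul_sub, mul_one, ← pow_add]
      congr 2
      omega
    have h2 : q ^ s * q ^ (2 * r * (s + 1) + tri (s + 1)) = q ^ (2 * (r + 1) * s + tri s) * q ^ (2 * r + 1) := by
      rw [← pow_add, ← pow_add, tri]
      congr 1
      ring
    rw [Finset.prod_range_succ, h1, show s + 1 + r = s + (r + 1) by omega, ← ih (r + 1), spOrd_succ]
    linear_combination (q ^ (2 * (r + 1)) - 1) *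
      (∏ i ∈ Finset.range s, (q ^ (2 * (s + (r + 1)) - i) - q ^ i)) * spOrd q r * h2

theorem card_sp_spOrd (m : ℕ) :
    Nat.card (Matrix.symplecticGroup (Fin m) F) = spOrd (Fintype.card F) m := by
  rw [card_sp, spOrd, ← Fin.prod_univ_eq_prod_range]

/-- Centraliser order in terms of the number of representations of `t - 1`. -/
theorem card_centralizer_tensor {m s r : ℕ} (hm : m = s + r) (t : Matrix.symplecticGroup (Fin m) F)
    (ht : t * t = 1) (hs : finrank F (LinearMap.range (diffMap (spLin m F) t)) = s)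
    {σ : Fin s → Fin s} (hσ : Function.Involutive σ) {y₀ : Fin s → Fin m ⊕ Fin m → F}
    (hy₀ : tensor (sympBilin m F) σ y₀ = diffMap (spLin m F) t) :
    Nat.card ↥(Subgroup.centralizer ({t} : Set ↥(Matrix.symplecticGroup (Fin m) F))) =
      Fintype.card F ^ (2 * r * s + tri s) * spOrd (Fintype.card F) r *
        Nat.card {y : Fin s → Fin m ⊕ Fin m → F // tensor (sympBilin m F) σ y = diffMap (spLin m F) t} := by
  have hN := diffMap_isInvolDiff (ρ := spLin m F) spLin_isometry ht
  have h := card_stab_mul (Subgroup.centralizer ({t} : Set ↥(Matrix.symplecticGroup (Fin m) F)))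
    (fun y => tensor (sympBilin m F) σ y = diffMap (spLin m F) t) (fun y hy => by
      obtain ⟨h1, h2⟩ := tensor_li sympBilin_isAlt (sympBilin_nondegenerate F m) hN hs hσ hy
      exact ⟨h1, fun a b => by rw [← sympBilin_apply]; exact h2 a b⟩) hy₀ (fun g => by
      have key : ∀ v, tensor (sympBilin m F) σ (fun a => g.1 *ᵥ y₀ a) (spLin m F g v) =
          spLin m F g (diffMap (spLin m F) t v) := fun v => by
        rw [← hy₀, tensor_apply, tensor_apply, map_sum]
        exact Finset.sum_congr rfl fun i _ => by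
          rw [map_smul, ← spLin_apply, ← spLin_apply, spLin_isometry]
      rw [Subgroup.mem_centralizer_singleton_iff]
      constructor
      · intro hc
        refine LinearMap.ext fun w => ?_
        obtain ⟨v, rfl⟩ := (spLin m F g).surjective w
        rw [key, diffMap_apply, diffMap_apply, map_sub, ← hom_mul_apply, ← hom_mul_apply, hc]
      · intro hT
        refine spLin_inj m (LinearEquiv.ext fun v => ?_)
        have h' := key v
        rw [hT, diffMap_apply, diffMap_apply, map_sub, sub_left_inj] at h'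
        rw [hom_mul_apply, hom_mul_apply]
        exact h'.symm)
  rw [card_isoTuple, card_sp_spOrd] at h
  have hi := iso_count_mul (q := Fintype.card F) Fintype.card_pos s r
  rw [← hm] at hi
  have hpos : 0 < ∏ i ∈ Finset.range s, (Fintype.card F ^ (2 * m - i) - Fintype.card F ^ i) :=
    Finset.prod_pos fun i hi' => Nat.sub_pos_of_lt
      (Nat.pow_lt_pow_right Fintype.one_lt_card (by have := Finset.mem_range.mp hi'; omega))
  refine Nat.eq_of_mul_eq_mul_right hpos (h.trans ?_)
  rw [← hi]
  ring

/-- Centraliser order, alternating type. -/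
theorem card_centralizer_alt {m k r : ℕ} (hm : m = k + k + r) (t : Matrix.symplecticGroup (Fin m) F)
    (ht : t * t = 1) (hs : finrank F (LinearMap.range (diffMap (spLin m F) t)) = k + k)
    (halt : IsAltType (sympBilin m F) (diffMap (spLin m F) t)) :
    Nat.card ↥(Subgroup.centralizer ({t} : Set ↥(Matrix.symplecticGroup (Fin m) F))) =
      Fintype.card F ^ (2 * r * (k + k) + tri (k + k)) * spOrd (Fintype.card F) r * spOrd (Fintype.card F) k := by
  have hN := diffMap_isInvolDiff (ρ := spLin m F) spLin_isometry ht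
  have hc := card_tensor_alt sympBilin_isAlt (sympBilin_nondegenerate F m) hN halt hs
  obtain ⟨⟨⟨y₀, hy₀⟩⟩, -⟩ := Nat.card_pos_iff.mp (hc ▸ spOrd_pos Fintype.one_lt_card k)
  rw [card_centralizer_tensor hm t ht hs Fin.rev_involutive hy₀, hc]

/-- Centraliser order, non-alternating type. -/
theorem card_centralizer_not_alt {m s r : ℕ} (hm : m = s + r) (t : Matrix.symplecticGroup (Fin m) F)
    (ht : t * t = 1) (hs : finrank F (LinearMap.range (diffMap (spLin m F) t)) = s)
    (hna : ¬ IsAltType (sympBilin m F) (diffMap (spLin m F) t)) :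
    Nat.card ↥(Subgroup.centralizer ({t} : Set ↥(Matrix.symplecticGroup (Fin m) F))) =
      Fintype.card F ^ (2 * r * s + tri s) * spOrd (Fintype.card F) r * onCount (Fintype.card F) s := by
  have hN := diffMap_isInvolDiff (ρ := spLin m F) spLin_isometry ht
  have hc := card_tensor_not_alt sympBilin_isAlt (sympBilin_nondegenerate F m) hN hna hs
  obtain ⟨⟨⟨y₀, hy₀⟩⟩, -⟩ := Nat.card_pos_iff.mp (hc ▸ onCount_pos Fintype.one_lt_card s)
  rw [card_centralizer_tensor hm t ht hs (σ := id) (fun _ => rfl) hy₀, hc]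

theorem half_quad (s : ℕ) : (3 * s ^ 2 - s) / 2 + 2 * s = 3 * tri s ∧
    2 * ((3 * s ^ 2 - s) / 2) + s = 3 * (s * s) := by
  have h := two_tri s
  have hle : s ≤ s * s := by
    rcases Nat.eq_zero_or_pos s with h | h
    · simp [h]
    · exact Nat.le_mul_of_pos_left s h
  rw [sq]
  omega

end Cfsg.Agent.Lib.Classical.CharTwoInvol
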