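import Mathlib.LinearAlgebra.Matrix.SchurComplement
import Mathlib.LinearAlgebra.Determinant
import Mathlib.LinearAlgebra.Matrix.ToLin
import Mathlib.FieldTheory.Finite.Basic
import Mathlib.Algebra.CharP.Two
import Cfsg.Agent.Lib.Geometry.HermBasis

/-!
Square zero self-adjoint maps of a hermitian space in characteristic two: two of equal rank are
carried to each other by an isometry of prescribed determinant.
-/

set_option autoImplicit false
set_option linter.unusedSectionVars false

namespace Cfsg.Agent.Lib.Classical.CharTwoInvol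

open Cfsg.Agent.Lib.Geometry (exists_orthonormal_family witt_hermitian exists_sesq_perp_apply_eq_one)
open Module (finrank)

variable {F : Type*} [Field F] {σ : F →+* F} {n : ℕ}
variable (B : (Fin n → F) →ₛₗ[σ] (Fin n → F) →ₗ[F] F)

/-- A normal form for a square zero self-adjoint map. -/
theorem exists_herm_normal_form [Finite F] (hσ : σ ≠ RingHom.id F) (hσ2 : ∀ a : F, σ (σ a) = a)
    (hS : B.IsSymm) (hB : B.Nondegenerate) (N : (Fin n → F) →ₗ[F] (Fin n → F))
    (hadj : ∀ u v, B (N u) v = B u (N v)) (hsq : ∀ v, N (N v) = 0) :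
    ∃ y : Fin (finrank F (LinearMap.range N)) → (Fin n → F), LinearIndependent F y ∧
      (∀ i l, B (y i) (y l) = 0) ∧ ∀ v, N v = ∑ i, B (y i) v • y i := by
  classical
  obtain ⟨r, hr⟩ := N.rangeRestrict.exists_rightInverse_of_surjective
    (LinearMap.range_rangeRestrict N)
  have hNr : ∀ x : LinearMap.range N, N (r x) = (x : Fin n → F) := fun x =>
    congrArg Subtype.val (LinearMap.congr_fun hr x)
  let β : LinearMap.range N →ₛₗ[σ] LinearMap.range N →ₗ[F] F :=
    LinearMap.mk₂'ₛₗ σ (RingHom.id F) (fun x x' => B (r x) (x' : Fin n → F))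
      (fun a b c => by simp only [map_add, LinearMap.add_apply])
      (fun c a b => by simp only [map_smul, map_smulₛₗ, LinearMap.smul_apply])
      (fun a b c => by simp only [Submodule.coe_add, map_add])
      (fun c a b => by simp only [Submodule.coe_smul, map_smul, RingHom.id_apply])
  have hβ : ∀ x x', β x x' = B (r x) (x' : Fin n → F) := fun _ _ => rfl
  have hflip : ∀ x x' : LinearMap.range N, B (r x) (x' : Fin n → F) = B (x : Fin n → F) (r x') := fun x x' => by
    rw [← hNr x', ← hadj, hNr]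
  have hβS : β.IsSymm := ⟨fun x x' => by
    rw [hβ, hβ, hflip x, hS.eq]⟩
  have hleft : ∀ x, (∀ x', β x x' = 0) → x = 0 := fun x hx => by
    refine Subtype.ext (hB.1 _ fun v => ?_)
    have h := hx ⟨N v, ⟨v, rfl⟩⟩
    rwa [hβ, ← hadj, hNr] at h
  have hβB : β.Nondegenerate := ⟨hleft, fun x' h => hleft x' fun x => by
    rw [← hβS.eq, h x, map_zero]⟩
  obtain ⟨e, he⟩ := exists_orthonormal_family hσ hσ2 β hβS hβB (finrank F (LinearMap.range N)) le_rfl
  have hli : LinearIndependent F e := by
    rw [Fintype.linearIndependent_iff]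
    intro g hg i
    have h := congrArg (β (e i)) hg
    rw [map_sum, map_zero] at h
    simpa [map_smul, he] using h
  have hbas : ∀ x : LinearMap.range N, x = ∑ i, β (e i) x • e i := by
    intro x
    have hspan := hli.span_eq_top_of_card_eq_finrank' (Fintype.card_fin _)
    obtain ⟨c, hc⟩ := (Submodule.mem_span_range_iff_exists_fun F).mp (hspan ▸ Submodule.mem_top : x ∈ Submodule.span F (Set.range e))
    conv_lhs => rw [← hc]
    refine Finset.sum_congr rfl fun i _ => ?_
    rw [← hc, map_sum]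
    simp [map_smul, he]
  refine ⟨fun i => (e i : Fin n → F), hli.map' (LinearMap.range N).subtype (Submodule.ker_subtype _),
    fun i l => ?_, fun v => ?_⟩
  · show B (e i : Fin n → F) (e l : Fin n → F) = 0
    rw [← hNr (e i), ← hNr (e l), hadj, hsq, map_zero]
  · have h := congrArg Subtype.val (hbas ⟨N v, ⟨v, rfl⟩⟩)
    simp only [AddSubmonoidClass.coe_finsetSum, Submodule.coe_smul] at h
    rw [h]
    refine Finset.sum_congr rfl fun i _ => ?_
    rw [hβ, ← hadj, hNr]

/-- The hyperbolic scaling fixing a normal form up to a scalar in the first vector. -/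
theorem exists_herm_scale [Finite F] (hσ2 : ∀ a : F, σ (σ a) = a) (hS : B.IsSymm) (hB : B.Nondegenerate)
    {s : ℕ} (y : Fin (s + 1) → (Fin n → F)) (hy : LinearIndependent F y) (hiso : ∀ i l, B (y i) (y l) = 0)
    (μ : F) (hμ : σ μ * μ = 1) :
    ∃ T : (Fin n → F) →ₗ[F] (Fin n → F), (∀ a b, B (T a) (T b) = B a b) ∧ LinearMap.det T = μ * μ ∧
      ∀ v, T (∑ i, B (y i) v • y i) = ∑ i, B (y i) (T v) • y i := by
  classical
  obtain ⟨u, hu0, hu1⟩ := exists_sesq_perp_apply_eq_one B hσ2 hS hB
    (Submodule.span F (y '' {i | i ≠ 0})) (x := y 0) (hy.notMem_span_image (by simp))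
  have huy : ∀ i, B u (y i) = if i = 0 then 1 else 0 := fun i => by
    by_cases hi : i = 0
    · rw [hi, if_pos rfl, hu1]
    · rw [if_neg hi]; exact hu0 _ (Submodule.subset_span ⟨i, hi, rfl⟩)
  have hyu : ∀ i, B (y i) u = if i = 0 then 1 else 0 := fun i => by
    rw [← hS.eq u (y i), huy]
    split_ifs <;> simp
  set c := B u u with hc
  have hcc : σ c = c := hS.eq u u
  let α : (Fin n → F) →ₗ[F] F := B (y 0)
  let γ : (Fin n → F) →ₗ[F] F := B u - c • B (y 0)
  let Bm : (Fin n → F) →ₗ[F] (Fin 2 → F) := LinearMap.pi ![γ, α]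
  let Am : (Fin 2 → F) →ₗ[F] (Fin n → F) :=
    ((μ - 1) • (LinearMap.proj 0 : (Fin 2 → F) →ₗ[F] F)).smulRight (y 0) +
      ((μ - 1) • (LinearMap.proj 1 : (Fin 2 → F) →ₗ[F] F)).smulRight u
  let T : (Fin n → F) →ₗ[F] (Fin n → F) := LinearMap.id + Am.comp Bm
  have hT : ∀ v, T v = v + (((μ - 1) * γ v) • y 0 + ((μ - 1) * α v) • u) := fun v => rfl
  have hγ : ∀ v, γ v = B u v - c * B (y 0) v := fun v => rfl
  have hα : ∀ v, α v = B (y 0) v := fun v => rfl
  have hBT : ∀ a v, B a (T v) = B a v + ((μ - 1) * γ v * B a (y 0) + (μ - 1) * α v * B a u) := fun a v => by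
    rw [hT, map_add, map_add, map_smul, map_smul, smul_eq_mul, smul_eq_mul]
  have hy0T : ∀ i v, B (y i) (T v) = if i = 0 then μ * B (y i) v else B (y i) v := fun i v => by
    rw [hBT, hiso, hyu, hα]
    split_ifs with h
    · subst h; ring
    · ring
  have hTy : ∀ i, T (y i) = if i = 0 then μ • y i else y i := fun i => by
    rw [hT, hγ, hα, hiso, huy]
    split_ifs with h
    · subst h
      rw [mul_zero, sub_zero, mul_one, mul_zero, zero_smul, add_zero]
      module
    · simp
  refine ⟨T, fun a b => ?_, ?_, fun v => ?_⟩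
  · have e1 : B (T a) (T b) = σ (B (T b) (T a)) := (hS.eq _ _).symm
    rw [hBT (T a) b, ← hS.eq b (T a), ← hS.eq (y 0) (T a), ← hS.eq u (T a), hBT b a, hBT (y 0) a, hBT u a,
      hiso, hyu, huy, if_pos rfl, hγ, hγ, hα, hα, ← hS.eq a b]
    simp only [map_add, map_sub, map_mul, map_one, map_zero, hS.eq, hcc, ← hc, hσ2]
    linear_combination (B a (y 0) * B u b + B a u * B (y 0) b - c * B a (y 0) * B (y 0) b) * hμ
  · rw [← LinearMap.det_toMatrix', show LinearMap.toMatrix' T = 1 + LinearMap.toMatrix' Am * LinearMap.toMatrix' Bm by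
      rw [← LinearMap.toMatrix'_comp, ← LinearMap.toMatrix'_id, ← map_add], Matrix.det_one_add_mul_comm,
      ← LinearMap.toMatrix'_comp, ← LinearMap.toMatrix'_id, ← map_add,
      show LinearMap.id + Bm.comp Am = μ • LinearMap.id by
        refine LinearMap.ext fun w => funext fun j => ?_
        fin_cases j
        · show w 0 + (B u (((μ - 1) * w 0) • y 0 + ((μ - 1) * w 1) • u) -
            c * B (y 0) (((μ - 1) * w 0) • y 0 + ((μ - 1) * w 1) • u)) = μ * w 0
          simp only [map_add, map_smul, smul_eq_mul, hiso, hyu, huy, ↓reduceIte, ← hc]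
          ring
        · show w 1 + B (y 0) (((μ - 1) * w 0) • y 0 + ((μ - 1) * w 1) • u) = μ * w 1
          simp only [map_add, map_smul, smul_eq_mul, hiso, hyu, huy, ↓reduceIte]
          ring,
      map_smul, LinearMap.toMatrix'_id, Matrix.det_smul, Matrix.det_one, Fintype.card_fin, mul_one, sq]
  · rw [map_sum]
    refine Finset.sum_congr rfl fun i _ => ?_
    rw [map_smul, hTy, hy0T]
    split_ifs
    · rw [smul_smul, mul_comm]
    · rfl

/-- Two square zero self-adjoint maps of equal rank: an intertwining isometry of determinant one. -/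
theorem exists_herm_conj [Finite F] [CharP F 2] (hσ : σ ≠ RingHom.id F) (hσ2 : ∀ a : F, σ (σ a) = a)
    (hS : B.IsSymm) (hB : B.Nondegenerate)
    (hdet : ∀ g : (Fin n → F) →ₗ[F] (Fin n → F), (∀ a b, B (g a) (g b) = B a b) →
      σ (LinearMap.det g) * LinearMap.det g = 1)
    (N N' : (Fin n → F) →ₗ[F] (Fin n → F))
    (hadj : ∀ u v, B (N u) v = B u (N v)) (hsq : ∀ v, N (N v) = 0)
    (hadj' : ∀ u v, B (N' u) v = B u (N' v)) (hsq' : ∀ v, N' (N' v) = 0)
    (hne : N ≠ 0) (hr : finrank F (LinearMap.range N) = finrank F (LinearMap.range N')) :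
    ∃ g : (Fin n → F) →ₗ[F] (Fin n → F), (∀ a b, B (g a) (g b) = B a b) ∧ LinearMap.det g = 1 ∧
      ∀ v, g (N v) = N' (g v) := by
  classical
  obtain ⟨y, hy, hyi, hyN⟩ := exists_herm_normal_form B hσ hσ2 hS hB N hadj hsq
  obtain ⟨y', hy', hyi', hyN'⟩ := exists_herm_normal_form B hσ hσ2 hS hB N' hadj' hsq'
  obtain ⟨s, hs⟩ : ∃ s, finrank F (LinearMap.range N) = s + 1 := by
    refine ⟨finrank F (LinearMap.range N) - 1, ?_⟩
    have : finrank F (LinearMap.range N) ≠ 0 := fun h => hne (by
      rwa [Submodule.finrank_eq_zero, LinearMap.range_eq_bot] at h)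
    omega
  let x : Fin (s + 1) → (Fin n → F) := y ∘ Fin.cast hs.symm
  let x' : Fin (s + 1) → (Fin n → F) := y' ∘ Fin.cast (hs.symm.trans hr)
  have hx : LinearIndependent F x := hy.comp _ (Fin.cast_injective _)
  have hx' : LinearIndependent F x' := hy'.comp _ (Fin.cast_injective _)
  have hxN : ∀ v, N v = ∑ i, B (x i) v • x i := fun v => by
    rw [hyN]
    exact (Fintype.sum_equiv (finCongr hs) _ _ fun i => rfl)
  have hxN' : ∀ v, N' v = ∑ i, B (x' i) v • x' i := fun v => by
    rw [hyN']
    exact (Fintype.sum_equiv (finCongr (hr.symm.trans hs)) _ _ fun i => rfl)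
  let φ : Submodule.span F (Set.range x) →ₗ[F] (Fin n → F) :=
    (Fintype.linearCombination F x').comp (((Finsupp.linearEquivFunOnFinite F F (Fin (s + 1))).toLinearMap).comp hx.repr)
  have hφ : ∀ i, φ ⟨x i, Submodule.subset_span ⟨i, rfl⟩⟩ = x' i := fun i => by
    simp only [φ, LinearMap.comp_apply]
    rw [hx.repr_eq_single i ⟨x i, Submodule.subset_span ⟨i, rfl⟩⟩ rfl]
    simp
  have hφinj : Function.Injective φ := by
    simp only [φ, LinearMap.coe_comp, LinearEquiv.coe_coe]
    exact (linearIndependent_iff_injective_fintypeLinearCombination.mp hx').comp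
      ((LinearEquiv.injective _).comp (LinearMap.ker_eq_bot.mp hx.repr_ker))
  have hzero : ∀ {t : Fin (s + 1) → (Fin n → F)}, (∀ i l, B (t i) (t l) = 0) →
      ∀ a ∈ Submodule.span F (Set.range t), ∀ b ∈ Submodule.span F (Set.range t), B a b = 0 := by
    intro t ht a ha b hb
    induction hb using Submodule.span_induction with
    | mem b hb =>
      induction ha using Submodule.span_induction with
      | mem a ha => obtain ⟨i, rfl⟩ := ha; obtain ⟨l, rfl⟩ := hb; exact ht i l
      | zero => simp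
      | add _ _ _ _ h1 h2 => simp [h1, h2]
      | smul _ _ _ h1 => simp [h1]
    | zero => simp
    | add _ _ _ _ h1 h2 => simp [h1, h2]
    | smul _ _ _ h1 => simp [h1]
  have hφmem : ∀ a, φ a ∈ Submodule.span F (Set.range x') := fun a => by
    simp only [φ, LinearMap.comp_apply, Fintype.linearCombination_apply]
    exact Submodule.sum_mem _ fun i _ => Submodule.smul_mem _ _ (Submodule.subset_span ⟨i, rfl⟩)
  obtain ⟨g, hg, hgx⟩ := witt_hermitian B hσ hσ2 hS hB _ φ hφinj (fun a b => by
    rw [hzero (fun i l => hyi' _ _) _ (hφmem a) _ (hφmem b), hzero (fun i l => hyi _ _) _ a.2 _ b.2])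
  have hgx' : ∀ i, g (x i) = x' i := fun i => (hgx _).trans (hφ i)
  set d := LinearMap.det (g : (Fin n → F) →ₗ[F] (Fin n → F)) with hd
  have hdd : σ d * d = 1 := hdet _ hg
  obtain ⟨ν, hν⟩ := FiniteField.isSquare_of_char_two (ringChar.eq F 2) d⁻¹
  have hνν : σ ν * ν = 1 := by
    have h2 : (σ ν * ν - 1) * (σ ν * ν - 1) = 0 := by
      have e : σ ν * ν * (σ ν * ν) = 1 := by
        rw [mul_mul_mul_comm, ← map_mul, ← hν, map_inv₀, ← mul_inv, hdd, inv_one]
      linear_combination e - (σ ν * ν - 1) * CharTwo.two_eq_zero (R := F)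
    exact sub_eq_zero.mp (mul_self_eq_zero.mp h2)
  obtain ⟨T, hT, hTd, hTN⟩ := exists_herm_scale B hσ2 hS hB x' hx' (fun i l => hyi' _ _) ν hνν
  refine ⟨T.comp (g : (Fin n → F) →ₗ[F] (Fin n → F)), fun a b => ?_, ?_, fun v => ?_⟩
  · show B (T (g a)) (T (g b)) = B a b
    rw [hT, hg]
  · rw [LinearMap.det_comp, hTd, ← hν, ← hd, inv_mul_cancel₀ fun h => by rw [h, mul_zero] at hdd; exact zero_ne_one hdd]
  · show T (g (N v)) = N' (T (g v))
    rw [hxN, map_sum, hxN', ← hTN]
    congr 1
    refine Finset.sum_congr rfl fun i _ => ?_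
    rw [map_smul, hgx', ← hgx', hg]

end Cfsg.Agent.Lib.Classical.CharTwoInvol
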